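import Groth.Prelude.Def_Pi1
import Groth.Agent.FlatHartogs.Normal
import Groth.Agent.DimOne.Geom
import Groth.Agent.TMul.Power
import Groth.Agent.TMul.RelAmple
import Groth.Agent.InvGen.Basic

/-!
# Invertible modules across codimension two, and ampleness from affine generating loci
-/

set_option autoImplicit false
set_option backward.isDefEq.respectTransparency false
set_option backward.isDefEq.respectTransparency.types false
set_option linter.style.haveILetI false
set_option maxHeartbeats 1000000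

universe u

open CategoryTheory CategoryTheory.Limits AlgebraicGeometry TopologicalSpace Opposite
open Groth.Agent.QC (res resO res_res res_smul resO_resO res_self)
open TMul (IsGen)

noncomputable section

namespace Groth.Agent.Sumihiro

variable {X : Scheme.{u}} [IsIntegral X] [IsLocallyNoetherian X] (hX : Pi1.IsNormalScheme X)
  {W : X.Opens} (hW : ∀ x : X, ringKrullDim (X.presheaf.stalk x) ≤ 1 → x ∈ W)

include hW in
theorem inf_nonempty {V : X.Opens} (hV : (V : Set X).Nonempty) : Nonempty ↥(V ⊓ W : X.Opens) := by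
  obtain ⟨x, hx⟩ := hV
  refine ⟨⟨genericPoint X, (genericPoint_specializes x).mem_open V.2 hx, hW _ ?_⟩⟩
  haveI : IsField (X.presheaf.stalk (genericPoint X)) := Field.toIsField X.functionField
  rw [ringKrullDim_eq_zero_of_isField (Field.toIsField X.functionField)]
  exact zero_le_one

include hX hW in
/-- Functions extend across codimension two. -/
theorem bijective_resO (V : X.Opens) : Function.Bijective (resO X (inf_le_left : V ⊓ W ≤ V)) := by
  have hinj : ∀ V : X.Opens, Function.Injective (resO X (inf_le_left : V ⊓ W ≤ V)) := by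
    intro V
    rcases (V : Set X).eq_empty_or_nonempty with he | hne
    · intro a b _
      refine X.sheaf.eq_of_locally_eq' (fun e : PEmpty.{u + 1} => e.elim) V (fun e => e.elim) ?_ a b (fun e => e.elim)
      intro x hx
      exact absurd hx (Set.eq_empty_iff_forall_notMem.1 he x)
    · haveI : Nonempty ((V ⊓ W : X.Opens) : Scheme.{u}) := inf_nonempty hW hne
      exact map_injective_of_isIntegral X (homOfLE (inf_le_left : V ⊓ W ≤ V))
  refine ⟨hinj V, fun s => ?_⟩
  have hZ : ∀ z : X, z ∉ W → (IsDomain (X.presheaf.stalk z) ∧ IsIntegrallyClosed (X.presheaf.stalk z) ∧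
      IsNoetherianRing (X.presheaf.stalk z)) ∧ (2 : WithBot ℕ∞) ≤ ringKrullDim (X.presheaf.stalk z) := fun z hz => by
    refine ⟨⟨(hX z).1, (hX z).2, inferInstance⟩, ?_⟩
    have h1 : ¬ ringKrullDim (X.presheaf.stalk z) ≤ 1 := fun h => hz (hW z h)
    rw [not_le, ringKrullDim_stalk_eq_coheight] at h1
    rw [ringKrullDim_stalk_eq_coheight]
    have h2 : (1 : ℕ∞) < Order.coheight z := by exact_mod_cast h1
    have h3 : (2 : ℕ∞) ≤ Order.coheight z := by
      rw [← one_add_one_eq_two]; exact Order.add_one_le_of_lt h2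
    exact WithBot.coe_le_coe.2 h3
  haveI : QuasiCompact W.ι := inferInstance
  choose N hN hzN hNV using fun z : V => exists_isAffineOpen_mem_and_subset (X := X) (U := V) z.2
  choose t ht using fun z : V => (FlatHartogs.Normal.bijective_res hZ (hN z)).2
    (resO X (inf_le_inf_right W (hNV z)) s)
  have ht' : ∀ (z : V) (O : X.Opens) (h : O ≤ N z),
      resO X (inf_le_left : O ⊓ W ≤ O) (resO X h (t z)) = resO X (inf_le_inf_right W (h.trans (hNV z))) s := by
    intro z O h
    have e := congrArg (resO X (inf_le_inf_right W h)) (ht z)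
    change resO X _ (resO X (inf_le_left : N z ⊓ W ≤ N z) (t z)) = _ at e
    rw [resO_resO, resO_resO] at e
    rw [resO_resO]
    exact e
  obtain ⟨a, ha, -⟩ := X.sheaf.existsUnique_gluing' N V (fun z => homOfLE (hNV z))
    (fun x hx => Opens.mem_iSup.2 ⟨⟨x, hx⟩, hzN _⟩) t (fun z w => hinj _ (by
      show resO X inf_le_left (resO X inf_le_left (t z)) = resO X inf_le_left (resO X inf_le_right (t w))
      rw [ht', ht']))
  refine ⟨a, X.sheaf.eq_of_locally_eq' (fun z => N z ⊓ W) (V ⊓ W) (fun z => homOfLE (inf_le_inf_right W (hNV z)))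
    (fun x hx => Opens.mem_iSup.2 ⟨⟨x, hx.1⟩, hzN _, hx.2⟩) _ _ fun z => ?_⟩
  show resO X _ (resO X inf_le_left a) = resO X _ s
  rw [resO_resO, ← ht' z (N z) le_rfl]
  have e := congrArg (resO X (inf_le_left : N z ⊓ W ≤ N z)) (ha z)
  change resO X _ (resO X (hNV z) a) = _ at e
  rw [resO_resO] at e
  rw [e, resO_resO (V := N z) (inf_le_left : N z ⊓ W ≤ N z) le_rfl]

/-- The push-forward of an invertible module of the open, with the extended sections. -/
abbrev push (N : (W : Scheme.{u}).Modules) : X.Modules := (Scheme.Modules.pushforward W.ι).obj N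

variable {N : (W : Scheme.{u}).Modules}

/-- A section on the open as a section of the push-forward. -/
def pushSec (σ : Coh.structureModule (W : Scheme.{u}) ⟶ N) : Coh.structureModule X ⟶ push N :=
  TMul.homOf (L := push N) (TMul.val σ ⊤ : Γ(N, ⊤))

theorem val_pushSec (σ : Coh.structureModule (W : Scheme.{u}) ⟶ N) (V : X.Opens) :
    TMul.val (pushSec σ) V = (TMul.val σ (W.ι ⁻¹ᵁ V) : Γ(N, W.ι ⁻¹ᵁ V)) := by
  rw [pushSec, TMul.val_homOf]
  exact TMul.res_val σ (le_top : W.ι ⁻¹ᵁ V ≤ ⊤)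

include hX hW in
theorem app_bijective (V : X.Opens) : Function.Bijective (W.ι.app V) := by
  have e : W.ι.app V = X.presheaf.map (homOfLE inf_le_left : V ⊓ W ⟶ V).op ≫
      W.ι.appLE (V ⊓ W) (W.ι ⁻¹ᵁ V) (fun z hz => ⟨hz, z.2⟩) := by
    rw [Scheme.Hom.map_appLE, Scheme.Hom.app_eq_appLE]
  rw [e]
  have hiso : Function.Bijective (W.ι.appLE (V ⊓ W) (W.ι ⁻¹ᵁ V) (fun z hz => ⟨hz, z.2⟩)) := by
    have e1 : W.ι ''ᵁ (W.ι ⁻¹ᵁ V) = V ⊓ W := by
      rw [Scheme.Hom.image_preimage_eq_opensRange_inf, W.opensRange_ι, inf_comm]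
    have hU : W.ι ''ᵁ (W.ι ⁻¹ᵁ V) ≤ V ⊓ W := e1.le
    haveI : IsIso (X.presheaf.map (homOfLE hU).op) := by
      haveI : IsIso (homOfLE hU) := ⟨homOfLE e1.ge, Subsingleton.elim _ _, Subsingleton.elim _ _⟩
      infer_instance
    have e2 : W.ι.appLE (V ⊓ W) (W.ι ⁻¹ᵁ V) (fun z hz => ⟨hz, z.2⟩) =
        X.presheaf.map (homOfLE hU).op ≫ (W.ι.appIso (W.ι ⁻¹ᵁ V)).hom := by
      rw [Scheme.Hom.appIso_hom', Scheme.Hom.map_appLE]
    rw [e2]
    exact ConcreteCategory.bijective_of_isIso _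
  exact hiso.comp (bijective_resO hX hW V)

include hX hW in
theorem isGen_pushSec (σ : Coh.structureModule (W : Scheme.{u}) ⟶ N) {O : X.Opens}
    (hO : W.ι ⁻¹ᵁ O ≤ CohB1.genLocus N σ) : IsGen (TMul.val (pushSec σ) O) := by
  intro V hV
  have hg : IsGen (TMul.val σ (W.ι ⁻¹ᵁ V)) := by
    have h1 := (TMul.isGen_genLocus σ).res ((W.ι.preimage_mono hV).trans hO)
    rwa [TMul.res_val] at h1
  have h2 := hg _ le_rfl
  simp only [TMul.res_val] at h2
  have h3 := h2.comp (app_bijective hX hW V)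
  have key : ∀ c : Γ(X, V), c • res (push N) hV (TMul.val (pushSec σ) O) =
      ((W.ι.app V c) • TMul.val σ (W.ι ⁻¹ᵁ V) : Γ(N, W.ι ⁻¹ᵁ V)) := fun c => by
    rw [TMul.res_val, val_pushSec]
    rfl
  rw [funext key]
  exact h3

include hX hW in
theorem isInvertible_push {ι : Type u} (σ : ι → (Coh.structureModule (W : Scheme.{u}) ⟶ N)) (O : ι → X.Opens)
    (hcov : ∀ x : X, ∃ i, x ∈ O i) (hO : ∀ i, W.ι ⁻¹ᵁ O i ≤ CohB1.genLocus N (σ i)) :
    PicF.IsInvertible (push N) := InvGen.isInvertible fun x => by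
  obtain ⟨i, hi⟩ := hcov x
  exact ⟨O i, TMul.val (pushSec (σ i)) (O i), hi, isGen_pushSec hX hW (σ i) (hO i)⟩

include hX hW in
/-- The generating locus of an extended section, when the open it comes from has affine inclusion. -/
theorem genLocus_pushSec (σ : Coh.structureModule (W : Scheme.{u}) ⟶ N) {O : X.Opens} [IsAffineHom O.ι]
    (hO : W.ι ⁻¹ᵁ O = CohB1.genLocus N σ) : CohB1.genLocus (push N) (pushSec σ) = O := by
  refine le_antisymm (fun y hy => ?_) (TMul.le_genLocus _ (isGen_pushSec hX hW σ hO.le))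
  by_contra hyO
  -- the generic point of a component of the complement through `y`
  let Z : Set X := (O : Set X)ᶜ
  have hZc : IsClosed Z := O.2.isClosed_compl
  obtain ⟨C, hC, hyC⟩ : ∃ C ∈ irreducibleComponents Z, (⟨y, hyO⟩ : Z) ∈ C :=
    ⟨_, irreducibleComponent_mem_irreducibleComponents _, mem_irreducibleComponent⟩
  have hCc : IsClosed C := isClosed_of_mem_irreducibleComponents C hC
  have hC' : IsIrreducible (Subtype.val '' C) := hC.1.image _ continuous_subtype_val.continuousOn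
  have hC'c : IsClosed (Subtype.val '' C) := hZc.isClosedEmbedding_subtypeVal.isClosedMap C hCc
  obtain ⟨ξ, hξ⟩ := QuasiSober.sober hC' hC'c
  have hξC : ξ ∈ Subtype.val '' C := hξ.mem
  have hξO : ξ ∉ O := by
    obtain ⟨z, -, rfl⟩ := hξC
    exact z.2
  have hgen : ∀ z : X, z ∉ O → z ⤳ ξ → z = ξ := by
    intro z hz hzξ
    have hirr : IsIrreducible (closure ({⟨z, hz⟩} : Set Z)) := isIrreducible_singleton.closure
    have hsub : C ⊆ closure ({⟨z, hz⟩} : Set Z) := by
      intro c hc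
      have h1 : ξ ⤳ (c : X) := hξ.specializes ⟨c, hc, rfl⟩
      exact ((subtype_specializes_iff _ _).2 (hzξ.trans h1) : (⟨z, hz⟩ : Z) ⤳ c).mem_closure
    have heq : C = closure ({⟨z, hz⟩} : Set Z) := le_antisymm hsub (hC.2 hirr hsub)
    have hzC : (⟨z, hz⟩ : Z) ∈ C := heq ▸ subset_closure rfl
    exact ((hξ.specializes ⟨_, hzC, rfl⟩).antisymm hzξ).eq.symm
  have hdim := Groth.Agent.DimOne.ringKrullDim_stalk_le_one O ξ hξO hgen
  have hξW : ξ ∈ W := hW ξ hdim
  have hξy : ξ ⤳ y := hξ.specializes ⟨_, hyC, rfl⟩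
  have hξg : ξ ∈ CohB1.genLocus (push N) (pushSec σ) := hξy.mem_open (Opens.is_open' _) hy
  obtain ⟨V, hξV, hgenV⟩ := (TMul.mem_genLocus_iff _).1 hξg
  -- on the open the section generates only inside `O`
  have hV' : IsGen (TMul.val σ (W.ι ⁻¹ᵁ V)) := by
    intro V' hV'
    have e1 : W.ι ''ᵁ V' ≤ V := by
      rintro _ ⟨z, hz, rfl⟩
      exact hV' hz
    have hb := hgenV (W.ι ''ᵁ V') e1
    have e2 : W.ι ⁻¹ᵁ (W.ι ''ᵁ V') = V' := W.ι.preimage_image_eq V'
    have key : ∀ c : Γ(X, W.ι ''ᵁ V'), c • res (push N) e1 (TMul.val (pushSec σ) V) =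
        ((W.ι.app _ c) • TMul.val σ (W.ι ⁻¹ᵁ (W.ι ''ᵁ V')) : Γ(N, W.ι ⁻¹ᵁ (W.ι ''ᵁ V'))) := fun c => by
      rw [TMul.res_val, val_pushSec]
      rfl
    rw [funext key] at hb
    have hb' : Function.Bijective (fun c : Γ((W : Scheme.{u}), W.ι ⁻¹ᵁ (W.ι ''ᵁ V')) =>
        c • TMul.val σ (W.ι ⁻¹ᵁ (W.ι ''ᵁ V'))) :=
      (Function.Bijective.of_comp_iff _ (app_bijective hX hW _)).1 hb
    have gen : ∀ (P : (W : Scheme.{u}).Opens), P = V' →
        Function.Bijective (fun c : Γ((W : Scheme.{u}), P) => c • TMul.val σ P) →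
        Function.Bijective (fun c : Γ((W : Scheme.{u}), V') => c • res N hV' (TMul.val σ (W.ι ⁻¹ᵁ V))) := by
      rintro P rfl h
      simpa only [TMul.res_val] using h
    exact gen _ e2 hb'
  have hmem : (⟨ξ, hξW⟩ : (W : Scheme.{u})) ∈ W.ι ⁻¹ᵁ O := hO ▸ TMul.le_genLocus σ hV' hξV
  exact hξO hmem

include hX hW in
/-- An invertible module with sections generating exactly on the given opens. -/
theorem isAmple_push [CompactSpace X] {ι : Type u} (σ : ι → (Coh.structureModule (W : Scheme.{u}) ⟶ N))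
    (O : ι → X.Opens) (hcov : ∀ x : X, ∃ i, x ∈ O i) (hOA : ∀ i, IsAffineOpen (O i)) [∀ i, IsAffineHom (O i).ι]
    (hO : ∀ i, W.ι ⁻¹ᵁ O i = CohB1.genLocus N (σ i)) : CohB1.IsAmple (push N) := by
  have hinv := isInvertible_push hX hW σ O hcov fun i => (hO i).le
  refine ⟨hinv, inferInstance, fun x => ?_⟩
  obtain ⟨i, hi⟩ := hcov x
  obtain ⟨e⟩ := TMul.nonempty_powOneIso (push N)
  refine ⟨0, pushSec (σ i) ≫ e.inv, ?_⟩
  rw [TMul.genLocus_comp, genLocus_pushSec hX hW (σ i) (hO i)]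
  exact ⟨hi, hOA i⟩

end Groth.Agent.Sumihiro
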