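import Groth.Agent.Sumihiro.Divisor
import Groth.Agent.Sumihiro.Extend
import Groth.Agent.Unirat.PicTransl
import Groth.Agent.GITss.Restrict
import Groth.Agent.Chev.Divisor
import Groth.Agent.GeomProp.SmoothPoint
import Groth.Agent.SmoothCompl.Basic

/-!
# Stable open subschemes with ample invertible modules (Sumihiro)
-/

set_option autoImplicit false
set_option backward.isDefEq.respectTransparency false
set_option backward.isDefEq.respectTransparency.types false
set_option linter.style.haveILetI false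
set_option maxHeartbeats 1000000
set_option synthInstance.maxHeartbeats 400000

universe u

open CategoryTheory CategoryTheory.Limits MonoidalCategory CartesianMonoidalCategory GrpObj AlgebraicGeometry
open scoped CategoryTheory.MonObj
open Groth.Agent.SubGen (rpt exists_rpt map_rpt)
open Groth.Agent.Unirat (transl transl_one transl_mul pullCl_transl exists_rp_mem_open)
open Groth.Agent.GITss (opn inc resAct resAct_inc IsStableOpen)

noncomputable section

namespace Groth.Agent.Sumihiro

variable {k : Type u} [Field k] [IsAlgClosed k]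

/-- An inclusion of opens may be tested on rational points. -/
theorem le_of_rpt {Y : Over (Spec (CommRingCat.of k))} [LocallyOfFiniteType Y.hom] {A B : Y.left.Opens}
    (h : ∀ q : 𝟙_ (Over (Spec (CommRingCat.of k))) ⟶ Y, rpt q ∈ A → rpt q ∈ B) : A ≤ B := by
  haveI : JacobsonSpace Y.left := LocallyOfFiniteType.jacobsonSpace Y.hom
  intro y hy
  by_contra hyB
  obtain ⟨z, hz, hzc⟩ := nonempty_inter_closedPoints (Z := (A : Set Y.left) ∩ (B : Set Y.left)ᶜ) ⟨y, hy, hyB⟩
    (A.2.isLocallyClosed.inter B.2.isClosed_compl.isLocallyClosed)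
  obtain ⟨q, rfl⟩ := exists_rpt hzc
  exact hz.2 (h q hz.1)

variable {G X : Over (Spec (CommRingCat.of k))} [GrpObj G]

/-- An open is stable when all translations preserve it. -/
theorem preimage_eq_of_transl [LocallyOfFiniteType G.hom] [LocallyOfFiniteType X.hom] (a : AlgGrp.Action G X)
    (U : X.left.Opens) (h : ∀ g, (transl a g).left ⁻¹ᵁ U = U) :
    a.act.left ⁻¹ᵁ U = (snd G X).left ⁻¹ᵁ U := by
  haveI : LocallyOfFiniteType (G ⊗ X).hom := by
    haveI : LocallyOfFiniteType (pullback.fst G.hom X.hom) := inferInstance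
    exact inferInstanceAs (LocallyOfFiniteType (pullback.fst G.hom X.hom ≫ G.hom))
  have key : ∀ q : 𝟙_ (Over (Spec (CommRingCat.of k))) ⟶ G ⊗ X,
      rpt q ∈ a.act.left ⁻¹ᵁ U ↔ rpt q ∈ (snd G X).left ⁻¹ᵁ U := by
    intro q
    have e : (q ≫ snd G X) ≫ transl a (q ≫ fst G X) = q ≫ a.act := by
      rw [transl, ← Category.assoc]
      congr 1
      refine CartesianMonoidalCategory.hom_ext _ _ ?_ ?_
      · rw [Category.assoc, lift_fst, ← Category.assoc, toUnit_unique (_ ≫ toUnit X) (𝟙 _), Category.id_comp]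
      · rw [Category.assoc, lift_snd, Category.comp_id]
    show a.act.left (rpt q) ∈ U ↔ (snd G X).left (rpt q) ∈ U
    rw [map_rpt, map_rpt, ← e, ← map_rpt]
    exact (SetLike.ext_iff.1 (h _) _)
  exact le_antisymm (le_of_rpt fun q => (key q).1) (le_of_rpt fun q => (key q).2)

omit [IsAlgClosed k] in
theorem isIso_transl (a : AlgGrp.Action G X) (g : 𝟙_ (Over (Spec (CommRingCat.of k))) ⟶ G) :
    IsIso (transl a g).left := by
  refine ⟨(transl a g⁻¹).left, ?_, ?_⟩
  · rw [← Over.comp_left, ← transl_mul, inv_mul_cancel, transl_one, Over.id_left]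
  · rw [← Over.comp_left, ← transl_mul, mul_inv_cancel, transl_one, Over.id_left]

/-- The regular points form an open stable under translations. -/
theorem preimage_smoothLocus [LocallyOfFinitePresentation X.hom] (a : AlgGrp.Action G X)
    (g : 𝟙_ (Over (Spec (CommRingCat.of k))) ⟶ G) :
    (transl a g).left ⁻¹ᵁ X.hom.smoothLocus = X.hom.smoothLocus := by
  haveI := isIso_transl a g
  ext y
  show (transl a g).left y ∈ X.hom.smoothLocus ↔ y ∈ X.hom.smoothLocus
  constructor <;> intro hy
  · haveI := GeomProp.regular_stalk_of_mem_smoothLocus X.hom hy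
    exact GeomProp.mem_smoothLocus_of_regular_perfect X.hom
      (IsRegularLocalRing.of_ringEquiv (R := X.left.presheaf.stalk ((transl a g).left y))
        (asIso ((transl a g).left.stalkMap y)).commRingCatIsoToRingEquiv)
  · haveI := GeomProp.regular_stalk_of_mem_smoothLocus X.hom hy
    exact GeomProp.mem_smoothLocus_of_regular_perfect X.hom
      (IsRegularLocalRing.of_ringEquiv (R := X.left.presheaf.stalk y)
        (asIso ((transl a g).left.stalkMap y)).commRingCatIsoToRingEquiv.symm)

theorem isNormalScheme_opens {Y : Scheme.{u}} (hY : Pi1.IsNormalScheme Y) (V : Y.Opens) :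
    Pi1.IsNormalScheme (V : Scheme.{u}) := fun z => by
  haveI := (hY (V.ι z)).1
  haveI := (hY (V.ι z)).2
  let e := (asIso (V.ι.stalkMap z)).commRingCatIsoToRingEquiv
  exact ⟨e.symm.toMulEquiv.isDomain (Y.presheaf.stalk (V.ι z)), IsIntegrallyClosed.of_equiv e⟩

/-- **Sumihiro**: a normal variety with an action of a connected linear group is covered by stable opens with an
ample invertible module. -/
theorem exists_stable_ample [IsAffine G.left] [Smooth G.hom] [ConnectedSpace G.left]
    [IsIntegral X.left] [IsSeparated X.hom] [LocallyOfFiniteType X.hom] [QuasiCompact X.hom]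
    (hX : Pi1.IsNormalScheme X.left) (a : AlgGrp.Action G X) (x : X.left) :
    ∃ X' : X.left.Opens, x ∈ X' ∧ a.act.left ⁻¹ᵁ X' = (snd G X).left ⁻¹ᵁ X' ∧
      ∃ L : (X' : Scheme.{u}).Modules, CohB1.IsAmple L := by
  haveI : IsLocallyNoetherian X.left := LocallyOfFiniteType.isLocallyNoetherian X.hom
  haveI : CompactSpace X.left := QuasiCompact.compactSpace_of_compactSpace X.hom
  haveI : IsNoetherian X.left := ⟨⟩
  haveI : LocallyOfFinitePresentation X.hom := inferInstance
  haveI : X.left.IsSeparated := ⟨by rw [← terminal.comp_from X.hom]; infer_instance⟩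
  let W := X.hom.smoothLocus
  have hW : ∀ z : X.left, ringKrullDim (X.left.presheaf.stalk z) ≤ 1 → z ∈ W := fun z hz => by
    haveI := (hX z).1
    haveI := (hX z).2
    exact GeomProp.mem_smoothLocus_of_regular_perfect X.hom (SmoothCompl.isRegularLocalRing_of_dim_le_one _ hz)
  have hWg := preimage_smoothLocus a
  have hWs : IsStableOpen a W := fun t ht => by
    show t ∈ a.act.left ⁻¹ᵁ W
    rw [preimage_eq_of_transl a W hWg]
    exact ht
  obtain ⟨U, hU, hxU, -⟩ := exists_isAffineOpen_mem_and_subset (X := X.left) (U := ⊤) (trivial : x ∈ (⊤ : X.left.Opens))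
  haveI : IsAffineHom U.ι := by
    haveI : IsAffine (U : Scheme.{u}) := hU
    exact IsAffineHom.of_comp U.ι (terminal.from X.left)
  have hgenW : genericPoint X.left ∈ W := hW _ (by
    haveI : IsField (X.left.presheaf.stalk (genericPoint X.left)) := Field.toIsField X.left.functionField
    rw [ringKrullDim_eq_zero_of_isField (Field.toIsField X.left.functionField)]
    exact zero_le_one)
  -- everything on the regular locus
  haveI : Nonempty (W : Scheme.{u}) := ⟨⟨_, hgenW⟩⟩
  haveI : IsIntegral (opn (X := X) W).left := inferInstanceAs (IsIntegral (W : Scheme.{u}))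
  haveI : TopologicalSpace.NoetherianSpace (W : Scheme.{u}) := TopologicalSpace.NoetherianSpace.set (W : Set X.left)
  haveI : CompactSpace (W : Scheme.{u}) := TopologicalSpace.NoetherianSpace.compactSpace (W : Scheme.{u})
  haveI : IsNoetherian (W : Scheme.{u}) := ⟨⟩
  haveI : LocallyOfFiniteType (opn (X := X) W).hom := inferInstanceAs (LocallyOfFiniteType (W.ι ≫ X.hom))
  haveI : QuasiCompact (opn (X := X) W).hom := inferInstanceAs (QuasiCompact (W.ι ≫ X.hom))
  let UW : (W : Scheme.{u}).Opens := W.ι ⁻¹ᵁ U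
  haveI : IsAffineHom UW.ι :=
    MorphismProperty.of_isPullback (P := @IsAffineHom) (isPullback_morphismRestrict W.ι U) inferInstance
  obtain ⟨D, hD, hDsupp⟩ := exists_effCartier_compl (W : Scheme.{u}) UW
    (UW.2.dense ⟨⟨_, hgenW⟩, (genericPoint_specializes x).mem_open U.2 hxU⟩) (fun z _ => by
      haveI := GeomProp.regular_stalk_of_mem_smoothLocus X.hom z.2
      haveI := IsRegularLocalRing.of_ringEquiv (R := X.left.presheaf.stalk z.1)
        (asIso (W.ι.stalkMap z)).commRingCatIsoToRingEquiv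
      exact ⟨inferInstance, UFDLib.ufd_of_isRegularLocalRing _⟩)
  obtain ⟨N, σ, hN, hσ⟩ := ResDesc.exists_locus_section D hD
  have hσU : CohB1.genLocus N σ = UW := by
    rw [hσ]
    exact TopologicalSpace.Opens.ext (by
      show (D.support : Set (W : Scheme.{u}))ᶜ = _
      rw [hDsupp, compl_compl])
  have hnW : Pi1.IsNormalScheme (opn (X := X) W).left := isNormalScheme_opens hX W
  -- translated sections
  have hσg : ∀ g : 𝟙_ (Over (Spec (CommRingCat.of k))) ⟶ G, ∃ s : Coh.structureModule (W : Scheme.{u}) ⟶ N,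
      CohB1.genLocus N s = W.ι ⁻¹ᵁ ((transl a g).left ⁻¹ᵁ U) := by
    intro g
    let tW := transl (resAct hWs) g
    have htW : tW ≫ inc W = inc W ≫ transl a g := by
      simp only [tW, transl, Category.assoc, resAct_inc, lift_whiskerLeft_assoc, Category.id_comp]
      rw [← Category.assoc (inc W), comp_lift, Category.comp_id, ← Category.assoc (inc W),
        toUnit_unique (inc W ≫ toUnit X) (toUnit (opn W))]
    have htW' : tW.left ≫ W.ι = W.ι ≫ (transl a g).left := congrArg (fun f => f.left) htW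
    have hc := pullCl_transl hnW (resAct hWs) g (PicF.cl N) ⟨N, rfl, hN⟩
    obtain ⟨e⟩ : Nonempty ((Scheme.Modules.pullback tW.left).obj N ≅ N) := (PicGrp.cl_eq_cl_iff _ _).1 hc
    refine ⟨((PicLoc.pullbackStructureIso tW.left).symm.hom ≫ (Scheme.Modules.pullback tW.left).map σ) ≫ e.hom, ?_⟩
    rw [TMul.genLocus_comp, TMul.genLocus_pullback tW.left hN σ, hσU]
    show tW.left ⁻¹ᵁ (W.ι ⁻¹ᵁ U) = _
    rw [← Scheme.Hom.comp_preimage, htW', Scheme.Hom.comp_preimage]
  choose s hs using hσg
  -- the stable open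
  let X' : X.left.Opens := ⨆ g, (transl a g).left ⁻¹ᵁ U
  have hxX' : x ∈ X' := TopologicalSpace.Opens.mem_iSup.2 ⟨1, by
    show (transl a 1).left x ∈ U
    rw [transl_one, Over.id_left]
    exact hxU⟩
  have hX'g : ∀ h, (transl a h).left ⁻¹ᵁ X' = X' := fun h => by
    show (transl a h).left ⁻¹ᵁ (⨆ g, (transl a g).left ⁻¹ᵁ U) = _
    rw [Scheme.Hom.preimage_iSup]
    refine le_antisymm (iSup_le fun g => ?_) (iSup_le fun g => ?_)
    · rw [← Scheme.Hom.comp_preimage, ← Over.comp_left, ← transl_mul]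
      exact le_iSup (fun g => (transl a g).left ⁻¹ᵁ U) (g * h)
    · refine le_trans ?_ (le_iSup _ (g * h⁻¹))
      rw [← Scheme.Hom.comp_preimage, ← Over.comp_left, ← transl_mul, inv_mul_cancel_right]
  refine ⟨X', hxX', preimage_eq_of_transl a X' hX'g, ?_⟩
  haveI : Nonempty (X' : Scheme.{u}) := ⟨⟨x, hxX'⟩⟩
  haveI : IsSeparated (X'.ι ≫ X.hom) := inferInstance
  haveI : (X' : Scheme.{u}).IsSeparated := ⟨by
    rw [← terminal.comp_from X'.ι]
    infer_instance⟩
  let W' : (X' : Scheme.{u}).Opens := X'.ι ⁻¹ᵁ W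
  have hW' : ∀ z : (X' : Scheme.{u}), ringKrullDim ((X' : Scheme.{u}).presheaf.stalk z) ≤ 1 → z ∈ W' := fun z hz => by
    refine hW _ ?_
    rwa [ringKrullDim_eq_of_ringEquiv (asIso (X'.ι.stalkMap z)).commRingCatIsoToRingEquiv]
  let j : (W' : Scheme.{u}) ⟶ (W : Scheme.{u}) := X'.ι ∣_ W
  let σ' : (𝟙_ (Over (Spec (CommRingCat.of k))) ⟶ G) →
      (Coh.structureModule (W' : Scheme.{u}) ⟶ (Scheme.Modules.pullback j).obj N) := fun g =>
    (PicLoc.pullbackStructureIso j).symm.hom ≫ (Scheme.Modules.pullback j).map (s g)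
  let O : (𝟙_ (Over (Spec (CommRingCat.of k))) ⟶ G) → (X' : Scheme.{u}).Opens := fun g =>
    X'.ι ⁻¹ᵁ ((transl a g).left ⁻¹ᵁ U)
  have hO : ∀ g, W'.ι ⁻¹ᵁ O g = CohB1.genLocus _ (σ' g) := fun g => by
    rw [TMul.genLocus_pullback j hN (s g), hs g]
    show W'.ι ⁻¹ᵁ (X'.ι ⁻¹ᵁ _) = j ⁻¹ᵁ (W.ι ⁻¹ᵁ _)
    rw [← Scheme.Hom.comp_preimage, ← Scheme.Hom.comp_preimage]
    exact congrArg (fun f => f ⁻¹ᵁ ((transl a g).left ⁻¹ᵁ U)) (morphismRestrict_ι X'.ι W).symm
  have hOA : ∀ g, IsAffineOpen (O g) := fun g => by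
    haveI := isIso_transl a g
    have hA : IsAffineOpen ((transl a g).left ⁻¹ᵁ U) := hU.preimage _
    refine hA.preimage_of_isOpenImmersion X'.ι ?_
    rw [Scheme.Opens.opensRange_ι]
    exact le_iSup (fun g => (transl a g).left ⁻¹ᵁ U) g
  haveI : ∀ g, IsAffineHom (O g).ι := fun g => by
    haveI : IsAffine (O g : Scheme.{u}) := hOA g
    exact IsAffineHom.of_comp (O g).ι (terminal.from (X' : Scheme.{u}))
  haveI : CompactSpace (X' : Scheme.{u}) := isCompact_iff_compactSpace.1 (TopologicalSpace.NoetherianSpace.isCompact (X' : Set X.left))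
  refine ⟨_, isAmple_push (isNormalScheme_opens hX X') hW' σ' O (fun z => ?_) hOA hO⟩
  obtain ⟨g, hg⟩ := TopologicalSpace.Opens.mem_iSup.1 z.2
  exact ⟨g, hg⟩

end Groth.Agent.Sumihiro
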