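import Groth.Agent.Sumihiro.TorusEigen

/-!
# Stable affine opens for torus actions on normal varieties (Sumihiro)
-/

set_option autoImplicit false
set_option backward.isDefEq.respectTransparency false
set_option backward.isDefEq.respectTransparency.types false
set_option linter.style.haveILetI false
set_option maxHeartbeats 1000000
set_option synthInstance.maxHeartbeats 400000

universe u

open CategoryTheory CategoryTheory.Limits MonoidalCategory CartesianMonoidalCategory AlgebraicGeometry TopologicalSpace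
open scoped CategoryTheory.MonObj
open Groth.Agent.Unirat (transl transl_one transl_mul)
open Groth.Agent.GITss (opn inc resAct resAct_inc IsStableOpen)

noncomputable section

namespace Groth.Agent.Sumihiro

variable {k : Type u} [Field k] [IsAlgClosed k]

omit [IsAlgClosed k] in
theorem transl_inc {G X : Over (Spec (CommRingCat.of k))} [GrpObj G] {a : AlgGrp.Action G X} {W : X.left.Opens}
    (hW : IsStableOpen a W) (g : 𝟙_ (Over (Spec (CommRingCat.of k))) ⟶ G) :
    (transl (resAct hW) g).left ≫ W.ι = W.ι ≫ (transl a g).left := by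
  have e : transl (resAct hW) g ≫ inc W = inc W ≫ transl a g := by
    simp only [transl, Category.assoc, resAct_inc, lift_whiskerLeft_assoc, Category.id_comp]
    rw [← Category.assoc (inc W), comp_lift, Category.comp_id, ← Category.assoc (inc W),
      toUnit_unique (inc W ≫ toUnit X) (toUnit (opn W))]
  exact congrArg (fun f => f.left) e

omit [IsAlgClosed k] in
theorem mem_of_transl_one {G X : Over (Spec (CommRingCat.of k))} [GrpObj G] (a : AlgGrp.Action G X) (O : X.left.Opens)
    (y : X.left) (h : y ∈ O) : (transl a (1 : 𝟙_ (Over (Spec (CommRingCat.of k))) ⟶ G)).left y ∈ O := by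
  rw [transl_one]
  exact h

/-- Powers of an ample module with finitely many affine loci covering. -/
theorem exists_affine_cover_power {X : Scheme.{u}} {L : X.Modules} (hL : CohB1.IsAmple L) (x : X) :
    ∃ (L' : X.Modules) (J : Type u) (σ : J → Γ(L', ⊤)) (j₀ : J), PicF.IsInvertible L' ∧
      (∀ y, ∃ j, y ∈ CohB1.genLocus L' (TMul.homOf (σ j))) ∧ x ∈ CohB1.genLocus L' (TMul.homOf (σ j₀)) ∧
      IsAffineOpen (CohB1.genLocus L' (TMul.homOf (σ j₀))) := by
  classical
  haveI := hL.2.1
  choose n s hys hs using hL.2.2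
  obtain ⟨F, hF⟩ := isCompact_univ.elim_finite_subcover (fun y : X => (CohB1.genLocus _ (s y) : Set X))
    (fun y => (CohB1.genLocus _ (s y)).2) (fun y _ => Set.mem_iUnion.2 ⟨y, hys y⟩)
  let F' := insert x F
  obtain ⟨N, hN⟩ : ∃ N, ∏ y ∈ F', (n y + 1) = N + 1 :=
    Nat.exists_eq_succ_of_ne_zero (Finset.prod_ne_zero_iff.2 fun y _ => Nat.succ_ne_zero _)
  choose t ht using fun y : F' => TMul.exists_genLocus_pow hL.1 (N := N) (n := n y.1)
    (hN ▸ Finset.dvd_prod_of_mem (fun y => n y + 1) y.2) (s y.1)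
  have hval : ∀ y : F', TMul.homOf (TMul.val (t y) ⊤) = t y := fun y => TMul.hom_ext_val (by
    rw [TMul.val_homOf]; exact Groth.Agent.QC.res_self _ _ _)
  refine ⟨CohB1.tensorPow L (N + 1), F', fun y => TMul.val (t y) ⊤, ⟨x, Finset.mem_insert_self x F⟩,
    TMul.isInvertible_tensorPow hL.1 _, fun y => ?_, ?_, ?_⟩
  · obtain ⟨z, hz, hyz⟩ := Set.mem_iUnion₂.1 (hF (Set.mem_univ y))
    refine ⟨⟨z, Finset.mem_insert_of_mem hz⟩, ?_⟩
    show y ∈ CohB1.genLocus _ (TMul.homOf (TMul.val (t ⟨z, Finset.mem_insert_of_mem hz⟩) ⊤))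
    rw [hval, ht]
    exact hyz
  · rw [hval, ht]
    exact hys x
  · rw [hval, ht]
    exact hs x

/-- **Sumihiro**: stable affine opens for torus actions on normal varieties. -/
theorem exists_stable_affine {T X : Over (Spec (CommRingCat.of k))} [GrpObj T] {r : ℕ}
    (hT : Red.IsSplitTorusWith (Fin r → ℤ) T)
    [IsIntegral X.left] [IsSeparated X.hom] [LocallyOfFiniteType X.hom] [QuasiCompact X.hom]
    (hX : Pi1.IsNormalScheme X.left) (a : AlgGrp.Action T X) (x : X.left) :
    ∃ U : X.left.Opens, x ∈ U ∧ IsAffineOpen U ∧ a.act.left ⁻¹ᵁ U = (snd T X).left ⁻¹ᵁ U := by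
  obtain ⟨hTA, hTS, hTI, ⟨C⟩⟩ := exists_coord hT
  haveI := hTA
  haveI := hTS
  haveI := hTI
  haveI : IrreducibleSpace T.left := inferInstance
  haveI : ConnectedSpace T.left := inferInstance
  haveI : LocallyOfFiniteType T.hom := inferInstance
  haveI : IsLocallyNoetherian X.left := LocallyOfFiniteType.isLocallyNoetherian X.hom
  haveI : CompactSpace X.left := QuasiCompact.compactSpace_of_compactSpace X.hom
  obtain ⟨X', hxX', hX's, L, hL⟩ := exists_stable_ample hX a x
  have hs : IsStableOpen a X' := fun t ht => by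
    show t ∈ a.act.left ⁻¹ᵁ X'
    rw [hX's]
    exact ht
  let b := resAct hs
  haveI : Nonempty (X' : Scheme.{u}) := ⟨⟨x, hxX'⟩⟩
  haveI : IsIntegral (opn (X := X) X').left := inferInstanceAs (IsIntegral (X' : Scheme.{u}))
  haveI : CompactSpace (opn (X := X) X').left := hL.2.1
  haveI : LocallyOfFiniteType (opn (X := X) X').hom := inferInstanceAs (LocallyOfFiniteType (X'.ι ≫ X.hom))
  haveI : QuasiCompact (opn (X := X) X').hom := (quasiCompact_iff_compactSpace _).2 inferInstance
  have hn : Pi1.IsNormalScheme (opn (X := X) X').left := isNormalScheme_opens hX X'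
  let x₀ : (opn (X := X) X').left := ⟨x, hxX'⟩
  obtain ⟨L', J, σ, j₀, hL', hcov, hxj, haff⟩ := exists_affine_cover_power (X := (opn (X := X) X').left) (L := L) hL x₀
  obtain ⟨φ⟩ := nonempty_act_iso_snd C hn b hL'
  let ψ := φ.symm
  obtain ⟨S, sm, hsm, hdec⟩ := exists_decomp ψ hL' C (σ j₀)
  have h1 : (transl b (1 : 𝟙_ (Over (Spec (CommRingCat.of k))) ⟶ T)).left x₀ ∈
      CohB1.genLocus L' (TMul.homOf (σ j₀)) :=
    mem_of_transl_one b _ x₀ hxj
  obtain ⟨n, hxn, hnaff⟩ := exists_weight (X := opn (X := X) X') (a := b) (L := L') ψ hL' C (s := σ j₀) haff h1 hsm hdec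
  have hinv : ∀ u : 𝟙_ (Over (Spec (CommRingCat.of k))) ⟶ T, (transl b u).left ⁻¹ᵁ loc (X := opn (X := X) X') (L := L') (sm n) =
      loc (X := opn (X := X) X') (L := L') (sm n) :=
    fun u => transl_loc (X := opn (X := X) X') (a := b) (L := L') ψ hL' C u σ hcov j₀ hsm hdec n
  refine ⟨X'.ι ''ᵁ loc (sm n), ⟨x₀, hxn, rfl⟩, hnaff.image_of_isOpenImmersion X'.ι,
    preimage_eq_of_transl a _ fun g => ?_⟩
  refine TopologicalSpace.Opens.ext (Set.ext fun y => ?_)
  have hX'g : (transl a g).left y ∈ X' ↔ y ∈ X' := by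
    have e : (transl a g).left ⁻¹ᵁ X' = X' := by
      rw [show (transl a g).left = (iot X g).left ≫ a.act.left from rfl, Scheme.Hom.comp_preimage,
        hX's, ← Scheme.Hom.comp_preimage, iot_snd, Scheme.Hom.id_preimage]
    exact SetLike.ext_iff.1 e y
  constructor
  · rintro ⟨z, hz, hzy⟩
    have hy : y ∈ X' := hX'g.1 (hzy ▸ z.2)
    refine ⟨⟨y, hy⟩, ?_, rfl⟩
    refine (SetLike.ext_iff.1 (hinv g) _).1 ?_
    show (transl b g).left ⟨y, hy⟩ ∈ loc (sm n)
    have e : X'.ι ((transl b g).left ⟨y, hy⟩) = X'.ι z :=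
      ((Scheme.Hom.comp_apply _ _ _).symm.trans (congrArg (fun f => f ⟨y, hy⟩) (transl_inc hs g))).trans hzy.symm
    rw [X'.ι.isOpenEmbedding.injective e]
    exact hz
  · rintro ⟨z, hz, rfl⟩
    refine ⟨(transl b g).left z, (SetLike.ext_iff.1 (hinv g) z).2 hz, ?_⟩
    exact (Scheme.Hom.comp_apply _ _ _).symm.trans (congrArg (fun f => f z) (transl_inc hs g))

end Groth.Agent.Sumihiro
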