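import Groth.Agent.TorusUnits.Basic
import Groth.Agent.GrCore.Laurent
import Mathlib

/-!
# Group algebras of lattices: factoriality, separation by points, unit multiples
-/

set_option autoImplicit false
set_option linter.style.haveILetI false

universe u

open scoped LaurentPolynomial AlgebraMonoidAlgebra

noncomputable section

namespace Groth.Agent.Sumihiro

theorem ufd_laurent (R : Type u) [CommRing R] [IsDomain R] [UniqueFactorizationMonoid R] :
    UniqueFactorizationMonoid R[T;T⁻¹] :=
  UniqueFactorizationMonoid.of_isLocalization (Submonoid.powers (Polynomial.X : Polynomial R)) R[T;T⁻¹]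

/-- Group algebras of lattices over factorial rings are factorial. -/
theorem ufd_fin : ∀ (r : ℕ) (R : Type u) [CommRing R] [IsDomain R] [UniqueFactorizationMonoid R],
    UniqueFactorizationMonoid (AddMonoidAlgebra R (Fin r → ℤ))
  | 0, R, _, _, _ => (AddMonoidAlgebra.uniqueRingEquiv (R := R) (Fin 0 → ℤ)).symm.toMulEquiv.uniqueFactorizationMonoid ‹_›
  | r + 1, R, _, _, _ => by
    haveI := ufd_fin r R
    haveI := GrCore.isDomain_group (ι := Fin r → ℤ) R
    haveI := ufd_laurent (AddMonoidAlgebra R (Fin r → ℤ))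
    let e : ℤ × (Fin r → ℤ) ≃+ (Fin (r + 1) → ℤ) :=
      { Fin.consEquiv (fun _ => ℤ) with
        map_add' := fun a b => by
          funext j
          refine Fin.cases ?_ (fun k => ?_) j <;> simp [Fin.consEquiv] }
    exact ((AddMonoidAlgebra.curryRingEquiv (R := R) (M := ℤ) (N := Fin r → ℤ)).symm.trans
        (AddMonoidAlgebra.mapDomainRingEquiv R e)).toMulEquiv.uniqueFactorizationMonoid inferInstance

variable {k : Type u} [Field k] [IsAlgClosed k] {r : ℕ} {A : Type u} [CommRing A] [Algebra k A]

local notation "M" => Fin r → ℤ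

/-- The value of a Laurent polynomial at a point of the torus. -/
def evalPt (θ : Multiplicative M →* kˣ) : AddMonoidAlgebra A M →ₐ[A] A :=
  AddMonoidAlgebra.lift A A M (((algebraMap k A).toMonoidHom.comp (Units.coeHom k)).comp θ)

theorem evalPt_single (θ : Multiplicative M →* kˣ) (m : M) (a : A) :
    evalPt θ (AddMonoidAlgebra.single m a) = a * algebraMap k A (θ (Multiplicative.ofAdd m) : k) := by
  simp [evalPt, AddMonoidAlgebra.lift_single, Algebra.smul_def]

theorem evalPt_eq_sum (θ : Multiplicative M →* kˣ) (F : AddMonoidAlgebra A M) :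
    evalPt θ F = ∑ m ∈ F.coeff.support, F.coeff m * algebraMap k A (θ (Multiplicative.ofAdd m) : k) := by
  conv_lhs => rw [← AddMonoidAlgebra.sum_coeff_single F]
  rw [Finsupp.sum, map_sum]
  exact Finset.sum_congr rfl fun m _ => evalPt_single θ m _

/-- Characters are separated by points. -/
theorem exists_pt_ne {m n : M} (h : m ≠ n) :
    ∃ θ : Multiplicative M →* kˣ, θ (Multiplicative.ofAdd m) ≠ θ (Multiplicative.ofAdd n) := by
  obtain ⟨i, hi⟩ := Function.ne_iff.1 h
  let d : ℕ := (m i - n i).natAbs
  have hd : 0 < d := Int.natAbs_pos.2 (sub_ne_zero.2 hi)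
  classical
  obtain ⟨c, hc⟩ := Infinite.exists_notMem_finset (insert 0 (Polynomial.nthRoots d (1 : k)).toFinset)
  rw [Finset.mem_insert, not_or, Multiset.mem_toFinset, Polynomial.mem_nthRoots hd] at hc
  let u : kˣ := Units.mk0 c hc.1
  refine ⟨(zpowersHom kˣ u).comp (AddMonoidHom.toMultiplicative (Pi.evalAddMonoidHom (fun _ : Fin r => ℤ) i)), ?_⟩
  intro he
  change u ^ m i = u ^ n i at he
  have h1 : u ^ (m i - n i) = 1 := by rw [zpow_sub, he, mul_inv_cancel]
  have h2 : u ^ d = 1 := pow_natAbs_eq_one.2 h1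
  exact hc.2 (by simpa [u] using congrArg Units.val h2)

theorem linearIndependent_pt :
    LinearIndependent k (fun (m : M) (θ : Multiplicative M →* kˣ) => (θ (Multiplicative.ofAdd m) : k)) := by
  refine (linearIndependent_monoidHom (Multiplicative M →* kˣ) k).comp
    (fun m : M => (Units.coeHom k).comp
      { toFun := fun θ => θ (Multiplicative.ofAdd m), map_one' := rfl, map_mul' := fun _ _ => rfl }) ?_
  intro m n h
  by_contra hne
  obtain ⟨θ, hθ⟩ := exists_pt_ne (k := k) hne
  exact hθ (Units.ext (DFunLike.congr_fun h θ))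

/-- A Laurent polynomial vanishing at all points is zero. -/
theorem eq_zero_of_evalPt {F : AddMonoidAlgebra A M} (h : ∀ θ : Multiplicative M →* kˣ, evalPt θ F = 0) : F = 0 := by
  refine AddMonoidAlgebra.coeff_injective (Finsupp.ext fun n => ?_)
  by_contra hn
  obtain ⟨f, hf⟩ : ∃ f : A →ₗ[k] k, f (F.coeff n) ≠ 0 := by
    by_contra! hall
    exact hn ((Module.forall_dual_apply_eq_zero_iff k _).1 hall)
  have hsum : ∑ m ∈ F.coeff.support, f (F.coeff m) • (fun θ : Multiplicative M →* kˣ => (θ (Multiplicative.ofAdd m) : k)) = 0 := by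
    funext θ
    have h1 := congrArg f (h θ)
    rw [evalPt_eq_sum, map_sum, map_zero] at h1
    rw [Finset.sum_apply, Pi.zero_apply, ← h1]
    refine Finset.sum_congr rfl fun m _ => ?_
    rw [mul_comm, ← Algebra.smul_def, map_smul, Pi.smul_apply, smul_eq_mul, smul_eq_mul, mul_comm]
  have h2 := linearIndependent_iff'.1 (linearIndependent_pt (k := k) (r := r)) F.coeff.support (fun m => f (F.coeff m)) hsum n
    (Finsupp.mem_support_iff.2 hn)
  exact hf h2

theorem eq_of_evalPt {F H : AddMonoidAlgebra A M} (h : ∀ θ : Multiplicative M →* kˣ, evalPt θ F = evalPt θ H) :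
    F = H :=
  sub_eq_zero.1 (eq_zero_of_evalPt fun θ => by rw [map_sub, h, sub_self])

/-- The evaluation vectors at the points span. -/
theorem exists_combination (S : Finset M) (n : M) :
    ∃ (J : Finset (Multiplicative M →* kˣ)) (c : (Multiplicative M →* kˣ) → k),
      ∀ m ∈ S, ∑ θ ∈ J, c θ * (θ (Multiplicative.ofAdd m) : k) = if m = n then 1 else 0 := by
  classical
  let v : (Multiplicative M →* kˣ) → (S → k) := fun θ m => (θ (Multiplicative.ofAdd m.1) : k)
  have htop : Submodule.span k (Set.range v) = ⊤ := by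
    by_contra hne
    obtain ⟨x, hx⟩ := SetLike.exists_not_mem_of_ne_top _ hne rfl
    obtain ⟨f, hfx, hf⟩ := Submodule.exists_dual_map_eq_bot_of_notMem hx inferInstance
    have hf' : ∀ θ, f (v θ) = 0 := fun θ => by
      have : f (v θ) ∈ (Submodule.span k (Set.range v)).map f := Submodule.mem_map_of_mem (Submodule.subset_span ⟨θ, rfl⟩)
      rwa [hf, Submodule.mem_bot] at this
    have h0 : ∀ m : S, f (Pi.single m 1) = 0 := by
      have hli := (linearIndependent_pt (k := k) (r := r)).comp (Subtype.val : S → M) Subtype.val_injective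
      refine fun m => Fintype.linearIndependent_iff.1 hli (fun m => f (Pi.single m 1)) ?_ m
      funext θ
      rw [Finset.sum_apply, Pi.zero_apply, ← hf' θ]
      conv_rhs => rw [pi_eq_sum_univ' (v θ), map_sum]
      refine Finset.sum_congr rfl fun m _ => ?_
      rw [map_smul, Pi.smul_apply, smul_eq_mul, smul_eq_mul, mul_comm]
      rfl
    refine hfx ?_
    rw [pi_eq_sum_univ' x, map_sum]
    exact Finset.sum_eq_zero fun m _ => by rw [map_smul, h0, smul_zero]
  have hmem : (fun m : S => if m.1 = n then (1 : k) else 0) ∈ Submodule.span k (Set.range v) := htop ▸ Submodule.mem_top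
  obtain ⟨c, hc⟩ := (Finsupp.mem_span_range_iff_exists_finsupp).1 hmem
  refine ⟨c.support, c, fun m hm => ?_⟩
  have h1 := congrFun hc ⟨m, hm⟩
  rw [Finsupp.sum, Finset.sum_apply] at h1
  exact h1

variable [Algebra.FiniteType k A]

omit [IsAlgClosed k] in
theorem finiteType_group : Algebra.FiniteType k (AddMonoidAlgebra A M) := by
  haveI : AddMonoid.FG M := AddGroup.fg_iff_addMonoid_fg.1 (Module.Finite.iff_addGroup_fg.1 inferInstance)
  exact Algebra.FiniteType.trans (R := k) (S := A) inferInstance inferInstance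

/-- A family without a common zero at the points generates the unit ideal. -/
theorem span_eq_top {ι : Type*} (Q : ι → AddMonoidAlgebra A M)
    (h : ∀ (y : A →ₐ[k] k) (θ : Multiplicative M →* kˣ), ∃ i, y (evalPt θ (Q i)) ≠ 0) :
    Ideal.span (Set.range Q) = ⊤ := by
  by_contra hne
  obtain ⟨P, hP, hle⟩ := Ideal.exists_le_maximal _ hne
  haveI := hP
  haveI := finiteType_group (k := k) (r := r) (A := A)
  let B := AddMonoidAlgebra A M ⧸ P
  letI : Field B := Ideal.Quotient.field P
  haveI : Algebra.FiniteType k B := Algebra.FiniteType.of_surjective (Ideal.Quotient.mkₐ k P) Ideal.Quotient.mk_surjective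
  haveI : Module.Finite k B := finite_of_finite_type_of_isJacobsonRing k B
  let e : k ≃ₐ[k] B := AlgEquiv.ofBijective (Algebra.ofId k B) (IsAlgClosed.algebraMap_bijective_of_isIntegral)
  let φ : AddMonoidAlgebra A M →ₐ[k] k := e.symm.toAlgHom.comp (Ideal.Quotient.mkₐ k P)
  let y : A →ₐ[k] k := φ.comp (IsScalarTower.toAlgHom k A (AddMonoidAlgebra A M))
  let θ : Multiplicative M →* kˣ :=
    (φ.toRingHom.toMonoidHom.comp (AddMonoidAlgebra.of A M)).toHomUnits
  have hφ : ∀ F, φ F = y (evalPt θ F) := by
    intro F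
    induction F using AddMonoidAlgebra.induction_linear with
    | zero => simp
    | add a b ha hb => simp only [map_add, ha, hb]
    | single m a =>
      rw [evalPt_single, map_mul, AlgHom.commutes]
      have e1 : AddMonoidAlgebra.single m a =
          algebraMap A (AddMonoidAlgebra A M) a * AddMonoidAlgebra.single m 1 := by
        rw [AddMonoidAlgebra.coe_algebraMap, Function.comp_apply, AddMonoidAlgebra.single_mul_single, zero_add, mul_one]
        rfl
      rw [e1, map_mul]
      rfl
  obtain ⟨i, hi⟩ := h y θ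
  refine hi ?_
  rw [← hφ]
  show e.symm (Ideal.Quotient.mk P (Q i)) = 0
  rw [Ideal.Quotient.eq_zero_iff_mem.2 (hle (Ideal.subset_span ⟨i, rfl⟩)), map_zero]

/-- Families with equal cross ratios generating the unit ideal differ by a monomial. -/
theorem exists_monomial [IsDomain A] {ι : Type*} (P Q : ι → AddMonoidAlgebra A M)
    (hcross : ∀ i j, P i * Q j = P j * Q i) (hP : Ideal.span (Set.range P) = ⊤)
    (hQ : Ideal.span (Set.range Q) = ⊤) :
    ∃ (d : M) (a : A), IsUnit a ∧ ∀ i, P i = AddMonoidAlgebra.single d a * Q i := by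
  have key : ∀ P Q : ι → AddMonoidAlgebra A M, (∀ i j, P i * Q j = P j * Q i) → Ideal.span (Set.range Q) = ⊤ →
      ∃ C, ∀ j, P j = C * Q j := by
    intro P Q hc hQ
    obtain ⟨b, hb⟩ := (Finsupp.mem_span_range_iff_exists_finsupp).1
      (show (1 : AddMonoidAlgebra A M) ∈ Submodule.span (AddMonoidAlgebra A M) (Set.range Q) by rw [← Ideal.span, hQ]; exact Submodule.mem_top)
    refine ⟨b.sum fun i z => z * P i, fun j => ?_⟩
    calc P j = (b.sum fun i z => z • Q i) * P j := by rw [hb, one_mul]
      _ = _ := by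
        rw [Finsupp.sum, Finsupp.sum, Finset.sum_mul, Finset.sum_mul]
        refine Finset.sum_congr rfl fun i _ => ?_
        rw [smul_eq_mul, mul_assoc, mul_assoc, mul_comm (Q i), ← hc i j]
  obtain ⟨C, hC⟩ := key P Q hcross hQ
  obtain ⟨D, hD⟩ := key Q P (fun i j => by rw [mul_comm (Q i), hcross j i, mul_comm]) hP
  have hu : IsUnit C := by
    refine isUnit_iff_exists_inv.2 ⟨D, ?_⟩
    obtain ⟨b, hb⟩ := (Finsupp.mem_span_range_iff_exists_finsupp).1
      (show (1 : AddMonoidAlgebra A M) ∈ Submodule.span (AddMonoidAlgebra A M) (Set.range P) by rw [← Ideal.span, hP]; exact Submodule.mem_top)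
    calc C * D = C * D * (b.sum fun i z => z • P i) := by rw [hb, mul_one]
      _ = b.sum fun i z => z • P i := by
        rw [Finsupp.mul_sum]
        refine Finsupp.sum_congr fun i _ => ?_
        conv_rhs => rw [hC i, hD i]
        rw [smul_eq_mul, smul_eq_mul]
        ring
      _ = 1 := hb
  haveI := GrCore.isDomain_group (ι := M) A
  obtain ⟨d, a, ha, rfl⟩ := TorusUnits.exists_single_of_isUnit hu
  exact ⟨d, a, ha, hC⟩

end Groth.Agent.Sumihiro
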