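import Groth.Agent.Sumihiro.TorusAlg
import Groth.Agent.MTBridge.Charts
import Groth.Agent.MTImage.ToriConj
import Groth.Agent.MTCentre.Main
import Groth.Agent.S16114
import Groth.Agent.DivDescMod.AffineOpen
import Groth.Agent.SubGen.AlgClosed
import Groth.Prelude.Def_Red

/-!
# Coordinates on split tori over algebraically closed fields
-/

set_option autoImplicit false
set_option backward.isDefEq.respectTransparency false
set_option backward.isDefEq.respectTransparency.types false
set_option linter.style.haveILetI false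
set_option maxHeartbeats 1000000

universe u

open CategoryTheory CategoryTheory.Limits MonoidalCategory CartesianMonoidalCategory AlgebraicGeometry
open scoped CategoryTheory.MonObj CategoryTheory.Obj AlgebraMonoidAlgebra

noncomputable section

namespace Groth.Agent.Sumihiro

variable {k : Type u} [Field k]

/-- Constants as functions. -/
def cst (Y : Over (Spec (CommRingCat.of k))) : k →+* Γ(Y.left, ⊤) :=
  ((Scheme.ΓSpecIso (CommRingCat.of k)).inv ≫ Y.hom.appTop).hom

/-- The value of a function at a rational point. -/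
def evalT {T : Over (Spec (CommRingCat.of k))} (t : 𝟙_ (Over (Spec (CommRingCat.of k))) ⟶ T) :
    Γ(T.left, ⊤) →+* k :=
  (t.left.appTop ≫ (Scheme.ΓSpecIso (CommRingCat.of k)).hom).hom

theorem evalT_cst {T : Over (Spec (CommRingCat.of k))} (t : 𝟙_ (Over (Spec (CommRingCat.of k))) ⟶ T) (c : k) :
    evalT t (cst T c) = c := by
  show (Scheme.ΓSpecIso (CommRingCat.of k)).hom (t.left.appTop (T.hom.appTop
    ((Scheme.ΓSpecIso (CommRingCat.of k)).inv c))) = c
  rw [← CommRingCat.comp_apply T.hom.appTop, ← Scheme.Hom.comp_appTop, Over.w t]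
  exact RingHom.congr_fun (congrArg CommRingCat.Hom.hom (Scheme.ΓSpecIso (CommRingCat.of k)).inv_hom_id) c

theorem evalT_comp {T T' : Over (Spec (CommRingCat.of k))} (t : 𝟙_ (Over (Spec (CommRingCat.of k))) ⟶ T)
    (f : T ⟶ T') (x : Γ(T'.left, ⊤)) : evalT (t ≫ f) x = evalT t (f.left.appTop x) := rfl

/-- Functions on a split torus: characters generate freely. -/
structure Coord (T : Over (Spec (CommRingCat.of k))) [GrpObj T] (r : ℕ) where
  /-- the characters -/
  chi : Multiplicative (Fin r → ℤ) →* Γ(T.left, ⊤)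
  desc : ∀ {B : Type u} [CommRing B] (f : k →+* B) (φ : Multiplicative (Fin r → ℤ) →* B),
    ∃ h : Γ(T.left, ⊤) →+* B, h.comp (cst T) = f ∧ ∀ m, h (chi m) = φ m
  ext : ∀ {B : Type u} [CommRing B] (h h' : Γ(T.left, ⊤) →+* B), h.comp (cst T) = h'.comp (cst T) →
    (∀ m, h (chi m) = h' (chi m)) → h = h'
  eval_mul : ∀ (t u : 𝟙_ (Over (Spec (CommRingCat.of k))) ⟶ T) (m : Multiplicative (Fin r → ℤ)),
    evalT (t * u) (chi m) = evalT t (chi m) * evalT u (chi m)

variable [IsAlgClosed k] {T : Over (Spec (CommRingCat.of k))} [GrpObj T] {r : ℕ}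

omit [IsAlgClosed k] in
theorem evalT_one_chi_aux (χ : Γ(T.left, ⊤)) (h : evalT (1 : 𝟙_ (Over (Spec (CommRingCat.of k))) ⟶ T) χ = 1) :
    (η[T]).left.appTop χ = 1 := by
  rw [Hom.one_def, toUnit_unique (toUnit _) (𝟙 _), Category.id_comp] at h
  refine (ConcreteCategory.bijective_of_isIso (Scheme.ΓSpecIso (CommRingCat.of k)).hom).1 ?_
  exact h.trans (map_one (Scheme.ΓSpecIso (CommRingCat.of k)).hom.hom).symm

/-- Split tori are affine, smooth and integral, and have coordinates. -/
theorem exists_coord (hT : Red.IsSplitTorusWith (Fin r → ℤ) T) :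
    IsAffine T.left ∧ Smooth T.hom ∧ IsIntegral T.left ∧ Nonempty (Coord T r) := by
  obtain ⟨i⟩ := hT
  obtain ⟨j⟩ := MTBridge.nonempty_DS_iso k (Fin r → ℤ)
  let A := MonoidAlgebra k (Multiplicative (Fin r → ℤ))
  let e := (Over.forget _).mapIso ((Grp.forget _).mapIso (i ≪≫ j))
  let e' : T.left ≅ Spec (CommRingCat.of A) := e
  have he : e'.hom ≫ Spec.map (CommRingCat.ofHom (algebraMap k A)) = T.hom :=
    Over.w ((Grp.forget _).mapIso (i ≪≫ j)).hom
  haveI : IsDomain A := NoZeroDivisors.to_isDomain _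
  haveI hA : IsAffine T.left := .of_isIso e'.hom
  haveI : Nonempty T.left := ⟨e'.inv (Classical.arbitrary _)⟩
  have hint : IsIntegral T.left := isIntegral_of_isOpenImmersion e'.hom
  haveI := hint
  have hsm : Smooth T.hom := by
    haveI : Smooth (Red.DS (Spec (CommRingCat.of k)) (Fin r → ℤ)).hom :=
      MTImage.smooth_torus (MTCentre.isTorus_DS_scheme _ r)
    rw [← Over.w i.hom.hom.hom]
    haveI : IsIso i.hom.hom.hom.left := inferInstanceAs (IsIso ((Over.forget _).map ((Grp.forget _).map i.hom)))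
    infer_instance
  haveI := hsm
  haveI : QuasiCompact T.hom := by
    haveI : IsAffineHom T.hom := isAffineHom_of_isAffine _
    infer_instance
  haveI : IrreducibleSpace T.left := inferInstance
  haveI : ConnectedSpace T.left := inferInstance
  let P : CommRingCat.of A ⟶ Γ(T.left, ⊤) := (Scheme.ΓSpecIso (CommRingCat.of A)).inv ≫ e'.hom.appTop
  haveI : IsIso P := inferInstance
  let π : A ≃+* Γ(T.left, ⊤) := (asIso P).commRingCatIsoToRingEquiv
  have hcst : ∀ c, π (algebraMap k A c) = cst T c := by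
    intro c
    show (((CommRingCat.ofHom (algebraMap k A)) ≫ (Scheme.ΓSpecIso (CommRingCat.of A)).inv ≫ e'.hom.appTop).hom c) = _
    rw [← Category.assoc, Scheme.ΓSpecIso_inv_naturality, Category.assoc, ← Scheme.Hom.comp_appTop, he]
    rfl
  let raw : Multiplicative (Fin r → ℤ) →* Γ(T.left, ⊤) := π.toMonoidHom.comp (MonoidAlgebra.of k _)
  let ε : Multiplicative (Fin r → ℤ) →* k :=
    (evalT (1 : 𝟙_ (Over (Spec (CommRingCat.of k))) ⟶ T)).toMonoidHom.comp raw
  let chi : Multiplicative (Fin r → ℤ) →* Γ(T.left, ⊤) :=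
    { toFun := fun m => cst T (ε m⁻¹) * raw m
      map_one' := by rw [inv_one, map_one, map_one, map_one, one_mul]
      map_mul' := fun m n => by
        rw [mul_inv, map_mul, map_mul, map_mul, mul_mul_mul_comm] }
  have hε : ∀ m, ε m⁻¹ * ε m = 1 := fun m => by rw [← map_mul, inv_mul_cancel, map_one]
  refine ⟨hA, hsm, hint, ⟨⟨chi, fun {B} _ f φ => ?_, fun {B} _ h h' hc hm => ?_, fun t u m => ?_⟩⟩⟩
  · let φ' : Multiplicative (Fin r → ℤ) →* B := ((f.toMonoidHom.comp ε)) * φ
    letI := f.toAlgebra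
    let L : A →ₐ[k] B := MonoidAlgebra.lift k B (Multiplicative (Fin r → ℤ)) φ'
    refine ⟨L.toRingHom.comp π.symm.toRingHom, RingHom.ext fun c => ?_, fun m => ?_⟩
    · show L (π.symm (cst T c)) = f c
      rw [← hcst, RingEquiv.symm_apply_apply, AlgHom.commutes]
      rfl
    · show L (π.symm (cst T (ε m⁻¹) * raw m)) = φ m
      rw [← hcst, map_mul, RingEquiv.symm_apply_apply]
      show L (algebraMap k A (ε m⁻¹) * π.symm (π (MonoidAlgebra.of k _ m))) = φ m
      rw [RingEquiv.symm_apply_apply, map_mul, AlgHom.commutes, MonoidAlgebra.lift_of]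
      show f (ε m⁻¹) * (f (ε m) * φ m) = φ m
      rw [← mul_assoc, ← map_mul, hε, map_one, one_mul]
  · have key : h.comp π.toRingHom = h'.comp π.toRingHom := by
      refine MonoidAlgebra.ringHom_ext' (RingHom.ext fun c => ?_) (MonoidHom.ext fun m => ?_)
      · show h (π (algebraMap k A c)) = h' (π (algebraMap k A c))
        rw [hcst]
        exact RingHom.congr_fun hc c
      · show h (raw m) = h' (raw m)
        have e1 : raw m = cst T (ε m) * chi m := by
          show raw m = cst T (ε m) * (cst T (ε m⁻¹) * raw m)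
          rw [← mul_assoc, ← map_mul, mul_comm (ε m), hε, map_one, one_mul]
        rw [e1, map_mul, map_mul, hm, show h (cst T (ε m)) = h' (cst T (ε m)) from RingHom.congr_fun hc _]
    refine RingHom.ext fun z => ?_
    obtain ⟨w, rfl⟩ := π.surjective z
    exact RingHom.congr_fun key w
  · have hu : IsUnit (chi m) := (Group.isUnit m).map chi
    have h1 : evalT (1 : 𝟙_ (Over (Spec (CommRingCat.of k))) ⟶ T) (chi m) = 1 := by
      show evalT _ (cst T (ε m⁻¹) * raw m) = 1
      rw [map_mul, evalT_cst]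
      exact hε m
    have h2 := Groth.Agent.S16114.result k T (chi m) hu (evalT_one_chi_aux _ h1)
    rw [Hom.mul_def, evalT_comp, h2, map_mul, ← evalT_comp, ← evalT_comp, lift_fst, lift_snd]

omit [IsAlgClosed k] in
/-- The rational point with given values of the characters. -/
theorem Coord.exists_pt (C : Coord T r) [IsAffine T.left] (θ : Multiplicative (Fin r → ℤ) →* kˣ) :
    ∃ t : 𝟙_ (Over (Spec (CommRingCat.of k))) ⟶ T, ∀ m, evalT t (C.chi m) = θ m := by
  obtain ⟨h, hc, hm⟩ := C.desc (RingHom.id k) ((Units.coeHom k).comp θ)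
  let f : Spec (CommRingCat.of k) ⟶ T.left := Spec.map (CommRingCat.ofHom h) ≫ T.left.isoSpec.inv
  have happ : f.appTop ≫ (Scheme.ΓSpecIso (CommRingCat.of k)).hom = CommRingCat.ofHom h := by
    show ((T.left.isoSpec.inv).appTop ≫ (Spec.map (CommRingCat.ofHom h)).appTop) ≫ _ = _
    have hi : T.left.isoSpec.inv.appTop = (Scheme.ΓSpecIso Γ(T.left, ⊤)).inv := by
      rw [← cancel_epi T.left.toSpecΓ.appTop, ← Scheme.Hom.comp_appTop, Scheme.isoSpec_inv_toSpecΓ,
        Scheme.toSpecΓ_appTop, Scheme.Hom.id_appTop, Iso.hom_inv_id]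
    rw [Category.assoc, Scheme.ΓSpecIso_naturality, hi]
    exact (Scheme.ΓSpecIso Γ(T.left, ⊤)).inv_hom_id_assoc (CommRingCat.ofHom h)
  have hw : f ≫ T.hom = 𝟙 _ := by
    refine ext_of_isAffine ?_
    rw [Scheme.Hom.comp_appTop, Scheme.Hom.id_appTop,
      ← cancel_epi (Scheme.ΓSpecIso (CommRingCat.of k)).inv, ← cancel_mono (Scheme.ΓSpecIso (CommRingCat.of k)).hom,
      Category.assoc, Category.assoc, happ, Category.comp_id, Iso.inv_hom_id]
    exact CommRingCat.hom_ext hc
  refine ⟨Over.homMk f hw, fun m => ?_⟩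
  show ((f.appTop ≫ (Scheme.ΓSpecIso (CommRingCat.of k)).hom).hom) (C.chi m) = θ m
  rw [happ]
  exact hm m

/-- Invertible modules on split tori are trivial. -/
theorem Coord.nonempty_trivial (C : Coord T r) [IsAffine T.left] [IsIntegral T.left] {L : T.left.Modules}
    (hL : PicF.IsInvertible L) : Nonempty (L ≅ Coh.structureModule T.left) := by
  let φ : Multiplicative (Fin r → ℤ) →* AddMonoidAlgebra k (Fin r → ℤ) := AddMonoidAlgebra.of k _
  obtain ⟨h, hc, hm⟩ := C.desc (AddMonoidAlgebra.singleZeroRingHom : k →+* AddMonoidAlgebra k (Fin r → ℤ)) φ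
  letI := (cst T).toAlgebra
  let g : AddMonoidAlgebra k (Fin r → ℤ) →ₐ[k] Γ(T.left, ⊤) :=
    AddMonoidAlgebra.lift k Γ(T.left, ⊤) (Fin r → ℤ) C.chi
  have h1 : g.toRingHom.comp h = RingHom.id _ := by
    refine C.ext _ _ (RingHom.ext fun c => ?_) fun m => ?_
    · show g (h (cst T c)) = cst T c
      rw [show h (cst T c) = AddMonoidAlgebra.singleZeroRingHom c from RingHom.congr_fun hc c]
      exact g.commutes c
    · show g (h (C.chi m)) = C.chi m
      rw [hm]
      exact AddMonoidAlgebra.lift_of _ _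
  have h2 : h.comp g.toRingHom = RingHom.id _ := by
    refine AddMonoidAlgebra.ringHom_ext (fun c => ?_) fun m => ?_
    · show h (g (AddMonoidAlgebra.single 0 c)) = _
      rw [show g (AddMonoidAlgebra.single 0 c) = cst T c from g.commutes c]
      exact RingHom.congr_fun hc c
    · show h (g (AddMonoidAlgebra.single m 1)) = _
      rw [show g (AddMonoidAlgebra.single m 1) = C.chi (Multiplicative.ofAdd m) from AddMonoidAlgebra.lift_of _ _, hm]
      rfl
  let eqv : AddMonoidAlgebra k (Fin r → ℤ) ≃+* Γ(T.left, ⊤) := RingEquiv.ofRingHom g.toRingHom h h1 h2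
  haveI := ufd_fin r k
  haveI : UniqueFactorizationMonoid Γ(T.left, ⊤) := eqv.toMulEquiv.uniqueFactorizationMonoid inferInstance
  haveI : Nonempty (⊤ : T.left.Opens) := ⟨⟨Classical.arbitrary _, trivial⟩⟩
  exact DivDescMod.nonempty_trivial_of_openImmersion (R := Γ(T.left, ⊤)) T.left.isoSpec.hom hL

end Groth.Agent.Sumihiro
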