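import Groth.Agent.Sumihiro.TorusCoord
import Groth.Agent.Unirat.PicPower
import Groth.Agent.SymAlg.BundleMap
import Groth.Agent.TMul.Power
import Groth.Agent.TMul.AmpleBasis

/-!
# The operators of a linearisation on the sections of an invertible module
-/

set_option autoImplicit false
set_option backward.isDefEq.respectTransparency false
set_option backward.isDefEq.respectTransparency.types false
set_option linter.style.haveILetI false
set_option linter.unusedSectionVars false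
set_option maxHeartbeats 1000000
set_option synthInstance.maxHeartbeats 400000

universe u

open CategoryTheory CategoryTheory.Limits MonoidalCategory CartesianMonoidalCategory AlgebraicGeometry TopologicalSpace Opposite
open scoped CategoryTheory.MonObj
open Groth.Agent.QC (res resO res_res res_self res_smul resO_resO app_res)
open Groth.Agent.Unirat (transl transl_one transl_mul)
open TMul (IsGen)

noncomputable section

namespace Groth.Agent.Sumihiro

/-! ## Coefficients with respect to a generator -/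

section Coef

variable {X : Scheme.{u}} {M : X.Modules} {U : X.Opens} {g : Γ(M, U)}

/-- The coefficient of a section with respect to a generator. -/
def co (hg : IsGen g) (z : Γ(M, U)) : Γ(X, U) := ((hg U le_rfl).2 z).choose

theorem co_smul (hg : IsGen g) (z : Γ(M, U)) : co hg z • g = z := by
  have h := ((hg U le_rfl).2 z).choose_spec
  exact (congrArg (co hg z • ·) (res_self M le_rfl g).symm).trans h

theorem co_eq (hg : IsGen g) {z : Γ(M, U)} {c : Γ(X, U)} (h : c • g = z) : co hg z = c := by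
  refine (hg U le_rfl).1 ?_
  show co hg z • res M le_rfl g = c • res M le_rfl g
  rw [res_self, co_smul, h]

theorem gen_inj (hg : IsGen g) {c d : Γ(X, U)} (h : c • g = d • g) : c = d :=
  (co_eq hg rfl).symm.trans (co_eq hg h.symm)

theorem co_add (hg : IsGen g) (z z' : Γ(M, U)) : co hg (z + z') = co hg z + co hg z' :=
  co_eq hg (by rw [add_smul, co_smul, co_smul])

theorem co_smul' (hg : IsGen g) (c : Γ(X, U)) (z : Γ(M, U)) : co hg (c • z) = c * co hg z :=
  co_eq hg (by rw [mul_smul, co_smul])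

theorem co_res (hg : IsGen g) {V : X.Opens} (h : V ≤ U) (hg' : IsGen (res M h g)) (z : Γ(M, U)) :
    co hg' (res M h z) = resO X h (co hg z) :=
  co_eq hg' (by rw [← res_smul, co_smul])

end Coef

section Semi

variable {X Y : Scheme.{u}} {f : X ⟶ Y} {L : Y.Modules} {M : X.Modules}
  (θ : L ⟶ (Scheme.Modules.pushforward f).obj M)

/-- A semilinear map on sections. -/
def appS (V : Y.Opens) (s : Γ(L, V)) : Γ(M, f ⁻¹ᵁ V) := θ.app V s

theorem appS_add (V : Y.Opens) (s s' : Γ(L, V)) : appS θ V (s + s') = appS θ V s + appS θ V s' :=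
  map_add (θ.app V).hom s s'

theorem hom_smul {V : Y.Opens} (c : Γ(Y, V)) (s : Γ(L, V)) :
    appS θ V (c • s) = (f.app V c) • appS θ V s :=
  Scheme.Modules.Hom.app_smul θ c s

theorem hom_res {W V : Y.Opens} (h : W ≤ V) (s : Γ(L, V)) :
    appS θ W (res L h s) = res M (f.preimage_mono h) (appS θ V s) :=
  (app_res θ h s).symm

end Semi

variable {k : Type u} [Field k] [IsAlgClosed k] {T X : Over (Spec (CommRingCat.of k))} [GrpObj T] {r : ℕ}

/-- The inverse images along the action and the projection agree. -/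
theorem nonempty_act_iso_snd [IsAffine T.left] [Smooth T.hom] [IsIntegral T.left] (C : Coord T r)
    [IsIntegral X.left] [LocallyOfFiniteType X.hom] [QuasiCompact X.hom]
    (hX : Pi1.IsNormalScheme X.left) (a : AlgGrp.Action T X) {L : X.left.Modules} (hL : PicF.IsInvertible L) :
    Nonempty ((Scheme.Modules.pullback a.act.left).obj L ≅ (Scheme.Modules.pullback (snd T X).left).obj L) := by
  haveI : IrreducibleSpace T.left := inferInstance
  haveI : ConnectedSpace T.left := inferInstance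
  letI := W7Cube.law T.left
  letI := W7Cube.law X.left
  letI := W7Cube.law (T ⊗ X).left
  obtain ⟨M, hM⟩ := Unirat.exists_eq_pull_fst hX a (PicGrp.cls L hL)
  have hM1 : M = 1 := by
    obtain ⟨M', hM', rfl⟩ := PicGrp.exists_eq_cls M
    exact (PicGrp.cls_eq_one_iff hM').2 (C.nonempty_trivial hM')
  rw [hM1, map_one, one_mul, PicGrp.pullHom_cls, PicGrp.pullHom_cls] at hM
  exact (PicGrp.cls_eq_cls_iff _ _).1 hM

/-- The section of the projection given by a rational point. -/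
abbrev iot (X : Over (Spec (CommRingCat.of k))) (t : 𝟙_ (Over (Spec (CommRingCat.of k))) ⟶ T) : X ⟶ T ⊗ X :=
  CartesianMonoidalCategory.lift (toUnit X ≫ t) (𝟙 X)

theorem iot_snd (t : 𝟙_ (Over (Spec (CommRingCat.of k))) ⟶ T) : (iot X t).left ≫ (snd T X).left = 𝟙 X.left := by
  rw [← Over.comp_left, lift_snd]
  rfl

theorem le_iot (t : 𝟙_ (Over (Spec (CommRingCat.of k))) ⟶ T) (V : X.left.Opens) :
    V ≤ (iot X t).left ⁻¹ᵁ ((snd T X).left ⁻¹ᵁ V) := by
  rw [← Scheme.Hom.comp_preimage, iot_snd]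
  exact le_rfl

/-- Evaluation of functions at a rational point of the first factor. -/
def ev (t : 𝟙_ (Over (Spec (CommRingCat.of k))) ⟶ T) (V : X.left.Opens) :
    Γ((T ⊗ X).left, (snd T X).left ⁻¹ᵁ V) →+* Γ(X.left, V) :=
  ((iot X t).left.appLE ((snd T X).left ⁻¹ᵁ V) V (le_iot t V)).hom

theorem ev_res (t : 𝟙_ (Over (Spec (CommRingCat.of k))) ⟶ T) {W V : X.left.Opens} (h : W ≤ V)
    (F : Γ((T ⊗ X).left, (snd T X).left ⁻¹ᵁ V)) :
    ev t W (resO _ ((snd T X).left.preimage_mono h) F) = resO X.left h (ev t V F) := by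
  show (((T ⊗ X).left.presheaf.map _ ≫ (iot X t).left.appLE _ _ _).hom F) =
    (((iot X t).left.appLE _ _ _ ≫ X.left.presheaf.map _).hom F)
  rw [Scheme.Hom.map_appLE, Scheme.Hom.appLE_map]

theorem appLE_congr_hom {X Y : Scheme.{u}} {f g : X ⟶ Y} (h : f = g) {U : Y.Opens} {V : X.Opens}
    (e : V ≤ f ⁻¹ᵁ U) : f.appLE U V e = g.appLE U V (h ▸ e) := by
  subst h; rfl

theorem ev_snd (t : 𝟙_ (Over (Spec (CommRingCat.of k))) ⟶ T) (V : X.left.Opens) (c : Γ(X.left, V)) :
    ev t V ((snd T X).left.app V c) = c := by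
  show (((snd T X).left.app V) ≫ (iot X t).left.appLE _ V _).hom c = c
  rw [← Scheme.Hom.comp_appLE, appLE_congr_hom (iot_snd t)]
  simp [Scheme.Hom.appLE]
  exact RingHom.congr_fun (congrArg CommRingCat.Hom.hom (X.left.presheaf.map_id (op V))) c

theorem basicOpen_ev (t : 𝟙_ (Over (Spec (CommRingCat.of k))) ⟶ T) (V : X.left.Opens)
    (F : Γ((T ⊗ X).left, (snd T X).left ⁻¹ᵁ V)) :
    X.left.basicOpen (ev t V F) = V ⊓ (iot X t).left ⁻¹ᵁ ((T ⊗ X).left.basicOpen F) :=
  Scheme.basicOpen_appLE _ _ _ _ _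

variable {a : AlgGrp.Action T X} {L : X.left.Modules}
  (ψ : (Scheme.Modules.pullback (snd T X).left).obj L ≅ (Scheme.Modules.pullback a.act.left).obj L)

/-- The linearisation on sections. -/
abbrev psi : L ⟶ (Scheme.Modules.pushforward a.act.left).obj ((Scheme.Modules.pullback (snd T X).left).obj L) :=
  SymAlg.pullθ a.act.left ψ

/-- Inverse image of sections along the projection. -/
abbrev eta (T : Over (Spec (CommRingCat.of k))) (L : X.left.Modules) :
    L ⟶ (Scheme.Modules.pushforward (snd T X).left).obj ((Scheme.Modules.pullback (snd T X).left).obj L) :=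
  SymAlg.pullθ (snd T X).left (Iso.refl _)

/-- The value of the linearisation on a global section over the inverse image of an open. -/
def psiV (s : Γ(L, ⊤)) (V : X.left.Opens) :
    Γ((Scheme.Modules.pullback (snd T X).left).obj L, (snd T X).left ⁻¹ᵁ V) :=
  res _ (le_top : (snd T X).left ⁻¹ᵁ V ≤ a.act.left ⁻¹ᵁ ⊤) (appS (psi ψ) ⊤ s)

theorem isGen_eta (hL : PicF.IsInvertible L) {V : X.left.Opens} {e : Γ(L, V)} (he : IsGen e) :
    IsGen (X := (T ⊗ X).left) (N := (Scheme.Modules.pullback (snd T X).left).obj L) (U := (snd T X).left ⁻¹ᵁ V)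
      (appS (eta T L) V e) :=
  SymAlg.isGen_pullθ _ _ (PicLoc.isInvertible_pullback _ hL) (TMul.isQCoh_of_isInvertible hL) e he

theorem isGen_psi (hL : PicF.IsInvertible L) {V : X.left.Opens} {e : Γ(L, V)} (he : IsGen e) :
    IsGen (X := (T ⊗ X).left) (N := (Scheme.Modules.pullback (snd T X).left).obj L) (U := a.act.left ⁻¹ᵁ V)
      (appS (psi ψ) V e) :=
  SymAlg.isGen_pullθ _ _ (PicLoc.isInvertible_pullback _ hL) (TMul.isQCoh_of_isInvertible hL) e he

variable (hL : PicF.IsInvertible L)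

/-- The function representing the linearised section in a frame. -/
def coefF {V : X.left.Opens} {e : Γ(L, V)} (he : IsGen e) (s : Γ(L, ⊤)) :
    Γ((T ⊗ X).left, (snd T X).left ⁻¹ᵁ V) :=
  co (isGen_eta hL he) (psiV ψ s V)

/-- Its value at a rational point. -/
def coefG (t : 𝟙_ (Over (Spec (CommRingCat.of k))) ⟶ T) {V : X.left.Opens} {e : Γ(L, V)} (he : IsGen e)
    (s : Γ(L, ⊤)) : Γ(X.left, V) :=
  ev t V (coefF ψ hL he s)

theorem coefF_res {W V : X.left.Opens} (h : W ≤ V) {e : Γ(L, V)} (he : IsGen e) (s : Γ(L, ⊤)) :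
    coefF ψ hL (he.res h) s = resO _ ((snd T X).left.preimage_mono h) (coefF ψ hL he s) := by
  refine co_eq _ ?_
  rw [hom_res, ← res_smul, coefF, co_smul, psiV, psiV, res_res]

theorem coefG_change (t : 𝟙_ (Over (Spec (CommRingCat.of k))) ⟶ T) {V : X.left.Opens} {e e' : Γ(L, V)}
    (he : IsGen e) (he' : IsGen e') (s : Γ(L, ⊤)) : coefG ψ hL t he' s • e' = coefG ψ hL t he s • e := by
  obtain ⟨w, hw⟩ : ∃ w, e' = w • e := ⟨co he e', (co_smul he e').symm⟩
  have h1 : coefF ψ hL he s = coefF ψ hL he' s * (snd T X).left.app V w := by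
    refine co_eq _ ?_
    rw [mul_smul, ← hom_smul, ← hw, coefF, co_smul]
  rw [coefG, coefG, h1, map_mul, ev_snd, mul_smul, ← hw]

theorem exists_G (t : 𝟙_ (Over (Spec (CommRingCat.of k))) ⟶ T) (s : Γ(L, ⊤)) :
    ∃ g : Γ(L, ⊤), ∀ (V : X.left.Opens) (e : Γ(L, V)) (he : IsGen e),
      res L le_top g = coefG ψ hL t he s • e := by
  choose V e hx he using fun x : X.left => TMul.exists_isGen hL x
  let sf : ∀ x, Γ(L, V x) := fun x => coefG ψ hL t (he x) s • e x
  have hres : ∀ {W : X.left.Opens} {V' : X.left.Opens} (h : W ≤ V') (e' : Γ(L, V')) (he' : IsGen e'),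
      res L h (coefG ψ hL t he' s • e') = coefG ψ hL t (he'.res h) s • res L h e' := by
    intro W V' h e' he'
    rw [res_smul, coefG, coefG, coefF_res, ev_res]
  obtain ⟨g, hg, -⟩ := TopCat.Sheaf.existsUnique_gluing' (QC.abSheaf L) V ⊤ (fun x => homOfLE le_top)
    (fun x _ => Opens.mem_iSup.2 ⟨x, hx x⟩) sf (fun x y => by
      show res L inf_le_left (sf x) = res L inf_le_right (sf y)
      rw [hres, hres]
      exact coefG_change ψ hL t _ _ s)
  refine ⟨g, fun V' e' he' => QC.section_eq_of_locally fun x hx' => ?_⟩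
  refine ⟨V' ⊓ V x, inf_le_left, ⟨hx', hx x⟩, ?_⟩
  have h1 : res L (le_top : V x ≤ ⊤) g = sf x := hg x
  rw [res_res, ← res_res L (inf_le_right : V' ⊓ V x ≤ V x) le_top, h1, hres, hres]
  exact coefG_change ψ hL t _ _ s

/-- The operator of a rational point on global sections. -/
def G (t : 𝟙_ (Over (Spec (CommRingCat.of k))) ⟶ T) (s : Γ(L, ⊤)) : Γ(L, ⊤) := (exists_G ψ hL t s).choose

theorem G_spec (t : 𝟙_ (Over (Spec (CommRingCat.of k))) ⟶ T) (s : Γ(L, ⊤)) {V : X.left.Opens} {e : Γ(L, V)}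
    (he : IsGen e) : res L le_top (G ψ hL t s) = coefG ψ hL t he s • e :=
  (exists_G ψ hL t s).choose_spec V e he

theorem co_G (t : 𝟙_ (Over (Spec (CommRingCat.of k))) ⟶ T) (s : Γ(L, ⊤)) {V : X.left.Opens} {e : Γ(L, V)}
    (he : IsGen e) : co he (res L le_top (G ψ hL t s)) = coefG ψ hL t he s :=
  co_eq he (G_spec ψ hL t s he).symm

theorem coefF_add {V : X.left.Opens} {e : Γ(L, V)} (he : IsGen e) (s s' : Γ(L, ⊤)) :
    coefF ψ hL he (s + s') = coefF ψ hL he s + coefF ψ hL he s' := by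
  rw [coefF, coefF, coefF, ← co_add]
  congr 1
  rw [psiV, psiV, psiV, ← map_add, appS_add]

theorem G_add (t : 𝟙_ (Over (Spec (CommRingCat.of k))) ⟶ T) (s s' : Γ(L, ⊤)) :
    G ψ hL t (s + s') = G ψ hL t s + G ψ hL t s' := by
  refine QC.section_eq_of_locally fun x _ => ?_
  obtain ⟨V, e, hx, he⟩ := TMul.exists_isGen hL x
  refine ⟨V, le_top, hx, ?_⟩
  rw [G_spec ψ hL t _ he, map_add, G_spec ψ hL t _ he, G_spec ψ hL t _ he, coefG, coefG, coefG, coefF_add,
    map_add, add_smul]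

/-- The operators commute with scaling by functions, up to translation. -/
theorem co_G_of_eq (t : 𝟙_ (Over (Spec (CommRingCat.of k))) ⟶ T) {s σ : Γ(L, ⊤)} {O : X.left.Opens}
    {f : Γ(X.left, O)} (hf : res L le_top s = f • res L (le_top : O ≤ ⊤) σ) {W : X.left.Opens}
    (hW : W ≤ (transl a t).left ⁻¹ᵁ O) {e : Γ(L, W)} (he : IsGen e) :
    coefG ψ hL t he s = (transl a t).left.appLE O W hW f * coefG ψ hL t he σ := by
  let W2 := (snd T X).left ⁻¹ᵁ W ⊓ a.act.left ⁻¹ᵁ O
  have hW2 : W ≤ (iot X t).left ⁻¹ᵁ W2 := by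
    intro y hy
    exact ⟨le_iot t W hy, hW hy⟩
  have h0 : ∀ z : Γ(L, ⊤), resO _ (inf_le_left : W2 ≤ (snd T X).left ⁻¹ᵁ W) (coefF ψ hL he z) •
      res _ (inf_le_left : W2 ≤ (snd T X).left ⁻¹ᵁ W) (appS (eta T L) W e) =
      res _ (inf_le_right : W2 ≤ a.act.left ⁻¹ᵁ O) (appS (psi ψ) O (res L le_top z)) := fun z => by
    rw [← res_smul, coefF, co_smul, psiV, hom_res, res_res, res_res]
    rfl
  have h1 : resO _ (inf_le_left : W2 ≤ (snd T X).left ⁻¹ᵁ W) (coefF ψ hL he s) =
      resO _ (inf_le_right : W2 ≤ a.act.left ⁻¹ᵁ O) (a.act.left.app O f) *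
        resO _ (inf_le_left : W2 ≤ (snd T X).left ⁻¹ᵁ W) (coefF ψ hL he σ) := by
    refine gen_inj ((isGen_eta hL he).res (inf_le_left : W2 ≤ (snd T X).left ⁻¹ᵁ W)) ?_
    rw [mul_smul]
    rw [h0, h0, hf, hom_smul, res_smul]
  have h2 := congrArg ((iot X t).left.appLE W2 W hW2).hom h1
  rw [map_mul] at h2
  have e1 : ∀ z, ((iot X t).left.appLE W2 W hW2).hom (resO _ (inf_le_left : W2 ≤ (snd T X).left ⁻¹ᵁ W) z) =
      ev t W z := fun z => by
    show (((T ⊗ X).left.presheaf.map _ ≫ (iot X t).left.appLE _ _ _).hom z) = _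
    rw [Scheme.Hom.map_appLE]
    rfl
  rw [e1, e1] at h2
  rw [coefG, coefG, h2]
  congr 1
  show ((a.act.left.app O ≫ (T ⊗ X).left.presheaf.map _ ≫ (iot X t).left.appLE _ _ _).hom f) = _
  rw [Scheme.Hom.map_appLE, ← Scheme.Hom.comp_appLE]
  rfl

/-- The zero loci move by translation. -/
theorem genLocus_G (t : 𝟙_ (Over (Spec (CommRingCat.of k))) ⟶ T) (s : Γ(L, ⊤)) :
    CohB1.genLocus L (TMul.homOf (G ψ hL t s)) = (transl a t).left ⁻¹ᵁ CohB1.genLocus L (TMul.homOf s) := by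
  refine TopologicalSpace.Opens.ext (Set.ext fun x => ?_)
  obtain ⟨V', e', hx', he'⟩ := TMul.exists_isGen hL ((transl a t).left x)
  obtain ⟨V, e, hx, he⟩ := TMul.exists_isGen hL x
  let W : X.left.Opens := V ⊓ (transl a t).left ⁻¹ᵁ V'
  have hxW : x ∈ W := ⟨hx, hx'⟩
  let W2 := (snd T X).left ⁻¹ᵁ W ⊓ a.act.left ⁻¹ᵁ V'
  have hW2 : W ≤ (iot X t).left ⁻¹ᵁ W2 := fun y hy => ⟨le_iot t W hy, hy.2⟩
  obtain ⟨f, hf⟩ : ∃ f, f • e' = res L (le_top : V' ≤ ⊤) s := ⟨co he' _, co_smul _ _⟩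
  have hWgen := he.res (inf_le_left : W ≤ V)
  have hg2 := ((isGen_eta (T := T) hL hWgen).res (inf_le_left : W2 ≤ (snd T X).left ⁻¹ᵁ W))
  have hg3 := (isGen_psi ψ hL he').res (inf_le_right : W2 ≤ a.act.left ⁻¹ᵁ V')
  obtain ⟨w, hw⟩ : ∃ w, w • res _ (inf_le_left : W2 ≤ (snd T X).left ⁻¹ᵁ W) (appS (eta T L) W (res L inf_le_left e)) =
      res _ (inf_le_right : W2 ≤ a.act.left ⁻¹ᵁ V') (appS (psi ψ) V' e') := ⟨co hg2 _, co_smul hg2 _⟩
  obtain ⟨w', hw'⟩ : ∃ w, w • res _ (inf_le_right : W2 ≤ a.act.left ⁻¹ᵁ V') (appS (psi ψ) V' e') =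
      res _ (inf_le_left : W2 ≤ (snd T X).left ⁻¹ᵁ W) (appS (eta T L) W (res L inf_le_left e)) :=
    ⟨co hg3 _, co_smul hg3 _⟩
  have hwu : IsUnit w := by
    refine isUnit_iff_exists_inv.2 ⟨w', gen_inj hg3 ?_⟩
    rw [mul_smul, hw', hw, one_smul]
  have h1 : resO _ (inf_le_left : W2 ≤ (snd T X).left ⁻¹ᵁ W) (coefF ψ hL hWgen s) =
      resO _ (inf_le_right : W2 ≤ a.act.left ⁻¹ᵁ V') (a.act.left.app V' f) * w := by
    refine gen_inj hg2 ?_
    rw [mul_smul]
    rw [← res_smul, coefF, co_smul, hw, ← res_smul, ← hom_smul, hf, psiV, hom_res, res_res, res_res]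
    rfl
  have h2 := congrArg ((iot X t).left.appLE W2 W hW2).hom h1
  rw [map_mul] at h2
  have e1 : ((iot X t).left.appLE W2 W hW2).hom (resO _ (inf_le_left : W2 ≤ (snd T X).left ⁻¹ᵁ W) (coefF ψ hL hWgen s)) =
      coefG ψ hL t hWgen s := by
    show (((T ⊗ X).left.presheaf.map _ ≫ (iot X t).left.appLE _ _ _).hom _) = _
    rw [Scheme.Hom.map_appLE]
    rfl
  have e2 : ((iot X t).left.appLE W2 W hW2).hom (resO _ (inf_le_right : W2 ≤ a.act.left ⁻¹ᵁ V') (a.act.left.app V' f)) =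
      (transl a t).left.appLE V' W inf_le_right f := by
    show ((a.act.left.app V' ≫ (T ⊗ X).left.presheaf.map _ ≫ (iot X t).left.appLE _ _ _).hom f) = _
    rw [Scheme.Hom.map_appLE, ← Scheme.Hom.comp_appLE]
    rfl
  rw [e1, e2] at h2
  have hG : TMul.val (TMul.homOf (G ψ hL t s)) W = coefG ψ hL t hWgen s • res L inf_le_left e := by
    rw [TMul.val_homOf, G_spec ψ hL t s hWgen]
  have hs : TMul.val (TMul.homOf s) V' = f • e' := by rw [TMul.val_homOf, hf]
  show x ∈ CohB1.genLocus L (TMul.homOf (G ψ hL t s)) ↔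
    (transl a t).left x ∈ CohB1.genLocus L (TMul.homOf s)
  rw [TMul.mem_genLocus_iff_isUnit _ hWgen hG hxW, TMul.mem_genLocus_iff_isUnit _ he' hs hx', h2, map_mul,
    IsUnit.mul_iff, and_iff_left ((hwu.map _).map _), ← X.left.mem_basicOpen _ x hxW, Scheme.basicOpen_appLE,
    ← X.left.mem_basicOpen f _ hx']
  exact ⟨fun h => h.2, fun h => ⟨hxW, h⟩⟩

end Groth.Agent.Sumihiro
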