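import Groth.Agent.Sumihiro.TorusData
import Groth.Agent.Sumihiro.Main
import Groth.Agent.Pinch.BaseChange

/-!
# Weight vectors of a linearised torus action on sections
-/

set_option autoImplicit false
set_option backward.isDefEq.respectTransparency false
set_option backward.isDefEq.respectTransparency.types false
set_option linter.style.haveILetI false
set_option linter.unusedSectionVars false
set_option maxHeartbeats 1000000
set_option synthInstance.maxHeartbeats 400000

universe u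

open CategoryTheory CategoryTheory.Limits MonoidalCategory CartesianMonoidalCategory AlgebraicGeometry TopologicalSpace Opposite
open scoped CategoryTheory.MonObj
open Groth.Agent.QC (res resO res_res res_self res_smul resO_resO app_res)
open Groth.Agent.Unirat (transl transl_one transl_mul)
open TMul (IsGen)

noncomputable section

namespace Groth.Agent.Sumihiro

variable {k : Type u} [Field k] [IsAlgClosed k] {T X : Over (Spec (CommRingCat.of k))} [GrpObj T] {r : ℕ}

/-- Constants on an open. -/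
def cstV (X : Over (Spec (CommRingCat.of k))) (V : X.left.Opens) : k →+* Γ(X.left, V) :=
  ((Scheme.ΓSpecIso (CommRingCat.of k)).inv ≫ X.hom.appLE ⊤ V le_top).hom

theorem cstV_eq (X : Over (Spec (CommRingCat.of k))) (V : X.left.Opens) (c : k) :
    cstV X V c = resO X.left (le_top : V ≤ ⊤) (cst X c) := rfl

theorem resO_cstV {W V : X.left.Opens} (h : W ≤ V) (c : k) : resO X.left h (cstV X V c) = cstV X W c := by
  rw [cstV_eq, resO_resO, cstV_eq]

/-- The algebra of functions on an open. -/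
@[implicit_reducible]
def algV (V : X.left.Opens) : Algebra k Γ(X.left, V) := (cstV X V).toAlgebra

attribute [local instance] algV

local notation "M" => Fin r → ℤ

theorem appTop_appLE {X Y Z : Scheme.{u}} (f : X ⟶ Y) (g : Y ⟶ Z) (V : X.Opens) (e : V ≤ f ⁻¹ᵁ ⊤) :
    g.appTop ≫ f.appLE ⊤ V e = (f ≫ g).appLE ⊤ V le_top := by
  rw [Scheme.Hom.comp_appLE]
  rfl

theorem appLE_top_top {X Y : Scheme.{u}} (f : X ⟶ Y) (e : (⊤ : X.Opens) ≤ f ⁻¹ᵁ ⊤) :
    f.appLE ⊤ ⊤ e = f.appTop := Scheme.Hom.appLE_eq_app f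

theorem appLE_of_eq_comp {X Y Z : Scheme.{u}} (f : X ⟶ Y) (g : Y ⟶ Z) (h : X ⟶ Z) (e : h = f ≫ g)
    (U : Z.Opens) (V : X.Opens) (e1 : V ≤ f ⁻¹ᵁ (g ⁻¹ᵁ U)) (e2 : V ≤ h ⁻¹ᵁ U) (x : Γ(Z, U)) :
    h.appLE U V e2 x = f.appLE (g ⁻¹ᵁ U) V e1 (g.appLE U (g ⁻¹ᵁ U) le_rfl x) := by
  subst e
  rw [← ConcreteCategory.comp_apply, Scheme.Hom.appLE_comp_appLE]

/-- The characters at a rational point. -/
def theta (C : Coord T r) (t : 𝟙_ (Over (Spec (CommRingCat.of k))) ⟶ T) : Multiplicative M →* kˣ :=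
  ((evalT t).toMonoidHom.comp C.chi).toHomUnits

theorem coe_theta (C : Coord T r) (t : 𝟙_ (Over (Spec (CommRingCat.of k))) ⟶ T) (m : Multiplicative M) :
    (theta C t m : k) = evalT t (C.chi m) := rfl

theorem theta_mul (C : Coord T r) (t u : 𝟙_ (Over (Spec (CommRingCat.of k))) ⟶ T) (m : Multiplicative M) :
    (theta C (t * u) m : k) = theta C t m * theta C u m := C.eval_mul t u m

theorem theta_surjective (C : Coord T r) [IsAffine T.left] (θ : Multiplicative M →* kˣ) :
    ∃ t, theta C t = θ := by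
  obtain ⟨t, ht⟩ := C.exists_pt θ
  exact ⟨t, MonoidHom.ext fun m => Units.ext (ht m)⟩

theorem evalPt_map {A B : Type u} [CommRing A] [CommRing B] [Algebra k A] [Algebra k B] (f : A →+* B)
    (hf : ∀ c, f (algebraMap k A c) = algebraMap k B c) (θ : Multiplicative M →* kˣ) (P : AddMonoidAlgebra A M) :
    evalPt θ (AddMonoidAlgebra.mapRingHom M f P) = f (evalPt θ P) := by
  induction P using AddMonoidAlgebra.induction_linear with
  | zero => simp
  | add a b ha hb => simp only [map_add, ha, hb]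
  | single m a => rw [AddMonoidAlgebra.mapRingHom_single, evalPt_single, evalPt_single, map_mul, hf]

theorem ev_fst (t : 𝟙_ (Over (Spec (CommRingCat.of k))) ⟶ T) (V : X.left.Opens) (z : Γ(T.left, ⊤)) :
    ev t V (resO _ (le_top : (snd T X).left ⁻¹ᵁ V ≤ ⊤) ((fst T X).left.appTop z)) = cstV X V (evalT t z) := by
  show (((fst T X).left.app ⊤ ≫ (T ⊗ X).left.presheaf.map _ ≫ (iot X t).left.appLE _ V _).hom z) = _
  rw [Scheme.Hom.map_appLE]
  erw [appTop_appLE]
  have e : (iot X t).left ≫ (fst T X).left = X.hom ≫ t.left := by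
    rw [← Over.comp_left, lift_fst]
    rfl
  rw [appLE_congr_hom e, Scheme.Hom.comp_appLE]
  show _ = (((t.left.appTop ≫ (Scheme.ΓSpecIso (CommRingCat.of k)).hom) ≫
    (Scheme.ΓSpecIso (CommRingCat.of k)).inv ≫ X.hom.appLE ⊤ V le_top).hom z)
  rw [Category.assoc, Iso.hom_inv_id_assoc]
  rfl

/-- Functions on the product with an affine open are Laurent polynomials. -/
theorem exists_poly [IsAffine T.left] (C : Coord T r) {V : X.left.Opens} (hV : IsAffineOpen V)
    (F : Γ((T ⊗ X).left, (snd T X).left ⁻¹ᵁ V)) :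
    ∃ P : AddMonoidAlgebra Γ(X.left, V) M, ∀ t, ev t V F = evalPt (theta C t) P := by
  let R := AddMonoidAlgebra Γ(X.left, V) M
  let V2 := (snd T X).left ⁻¹ᵁ V
  let B := Γ((T ⊗ X).left, V2)
  letI : Algebra Γ(X.left, V) B := ((snd T X).left.app V).hom.toAlgebra
  let cV : R →ₐ[Γ(X.left, V)] B := AddMonoidAlgebra.lift Γ(X.left, V) B M
    (((resO _ (le_top : V2 ≤ ⊤)).comp (fst T X).left.appTop.hom).toMonoidHom.comp C.chi)
  obtain ⟨hT, hTc, hTm⟩ := C.desc ((AddMonoidAlgebra.singleZeroRingHom : Γ(X.left, V) →+* R).comp (cstV X V))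
    (AddMonoidAlgebra.of _ M)
  have hUY : V2 = (fst T X).left ⁻¹ᵁ ⊤ ⊓ (snd T X).left ⁻¹ᵁ V := by simp [V2]
  obtain ⟨hp, -⟩ := Groth.Agent.Pinch.isPushout_appLE (IsPullback.of_hasPullback T.hom X.hom) (US := ⊤)
    (UX := ⊤) (UT := V) (isAffineOpen_top _) (isAffineOpen_top _) hV le_top le_top V2 hUY
  have hpt : ∀ z, ((fst T X).left.appLE ⊤ V2 le_top).hom z = resO _ (le_top : V2 ≤ ⊤) ((fst T X).left.appTop z) :=
    fun z => rfl
  have w : T.hom.appLE ⊤ ⊤ le_top ≫ CommRingCat.ofHom hT =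
      X.hom.appLE ⊤ V le_top ≫ CommRingCat.ofHom (AddMonoidAlgebra.singleZeroRingHom : Γ(X.left, V) →+* R) := by
    rw [← cancel_epi (Scheme.ΓSpecIso (CommRingCat.of k)).inv]
    refine CommRingCat.hom_ext ?_
    refine RingHom.ext fun c => ?_
    show hT ((T.hom.appLE ⊤ ⊤ le_top).hom ((Scheme.ΓSpecIso (CommRingCat.of k)).inv c)) = _
    rw [appLE_top_top]
    exact RingHom.congr_fun hTc c
  let h := hp.desc (CommRingCat.ofHom hT) (CommRingCat.ofHom (AddMonoidAlgebra.singleZeroRingHom : Γ(X.left, V) →+* R)) w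
  have hid : h ≫ CommRingCat.ofHom cV.toRingHom = 𝟙 _ := by
    refine hp.hom_ext ?_ ?_
    · rw [hp.inl_desc_assoc, Category.comp_id]
      refine CommRingCat.hom_ext (C.ext _ _ (RingHom.ext fun c => ?_) fun m => ?_)
      · show cV (hT (cst T c)) = _
        rw [show hT (cst T c) = AddMonoidAlgebra.single 0 (cstV X V c) from RingHom.congr_fun hTc c]
        refine (cV.commutes (cstV X V c)).trans ?_
        show (((Scheme.ΓSpecIso (CommRingCat.of k)).inv ≫ X.hom.appLE ⊤ V le_top ≫ (snd T X).left.app V).hom c) =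
          (((Scheme.ΓSpecIso (CommRingCat.of k)).inv ≫ T.hom.appTop ≫ (fst T X).left.appLE ⊤ V2 le_top).hom c)
        have hw : (snd T X).left ≫ X.hom = (fst T X).left ≫ T.hom :=
          (pullback.condition (f := T.hom) (g := X.hom)).symm
        rw [(snd T X).left.app_eq_appLE, Scheme.Hom.appLE_comp_appLE, appLE_congr_hom hw, ← Scheme.Hom.appLE_comp_appLE
          (fst T X).left T.hom ⊤ ⊤ V2 le_top le_top, appLE_top_top]
      · show cV (hT (C.chi m)) = _
        rw [hTm]
        exact AddMonoidAlgebra.lift_of _ _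
    · rw [hp.inr_desc_assoc, Category.comp_id]
      refine CommRingCat.hom_ext (RingHom.ext fun c => ?_)
      show cV (AddMonoidAlgebra.single 0 c) = _
      refine (cV.commutes c).trans ?_
      show ((snd T X).left.app V).hom c = ((snd T X).left.appLE V V2 _).hom c
      rw [(snd T X).left.app_eq_appLE]
  refine ⟨h.hom F, fun t => ?_⟩
  have key : ∀ P : R, ev t V (cV P) = evalPt (theta C t) P := fun P => by
    induction P using AddMonoidAlgebra.induction_linear with
    | zero => simp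
    | add a b ha hb => simp only [map_add, ha, hb]
    | single m a =>
      rw [evalPt_single, show cV (AddMonoidAlgebra.single m a) = (snd T X).left.app V a *
        resO _ (le_top : V2 ≤ ⊤) ((fst T X).left.appTop (C.chi (Multiplicative.ofAdd m))) from
        AddMonoidAlgebra.lift_single _ _ _, map_mul, ev_snd, ev_fst]
      rfl
  rw [← key]
  exact congrArg (ev t V) (RingHom.congr_fun (congrArg CommRingCat.Hom.hom hid) F).symm

theorem appLE_cst (a : AlgGrp.Action T X) (t : 𝟙_ (Over (Spec (CommRingCat.of k))) ⟶ T) {W : X.left.Opens}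
    (hW : W ≤ (transl a t).left ⁻¹ᵁ ⊤) (c : k) :
    (transl a t).left.appLE ⊤ W hW (cst X c) = cstV X W c := by
  show (((Scheme.ΓSpecIso (CommRingCat.of k)).inv ≫ X.hom.appTop ≫ (transl a t).left.appLE ⊤ W hW).hom c) = _
  rw [appTop_appLE, appLE_congr_hom (Over.w (transl a t))]
  rfl

variable {a : AlgGrp.Action T X} {L : X.left.Modules}
  (ψ : (Scheme.Modules.pullback (snd T X).left).obj L ≅ (Scheme.Modules.pullback a.act.left).obj L)
  (hL : PicF.IsInvertible L)

theorem G_smul (t : 𝟙_ (Over (Spec (CommRingCat.of k))) ⟶ T) (c : k) (s : Γ(L, ⊤)) :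
    G ψ hL t (cst X c • s) = cst X c • G ψ hL t s := by
  refine QC.section_eq_of_locally fun x _ => ?_
  obtain ⟨V, e, hx, he⟩ := TMul.exists_isGen hL x
  refine ⟨V, le_top, hx, ?_⟩
  rw [res_smul, G_spec ψ hL t _ he, G_spec ψ hL t _ he, smul_smul,
    co_G_of_eq ψ hL t (s := cst X c • s) (σ := s) (O := ⊤) (f := cst X c)
      (by rw [res_self, res_self]) (le_top.trans_eq (Scheme.Hom.preimage_top _).symm) he, appLE_cst, cstV_eq]

/-- The translation of a ratio of sections. -/
theorem G_rel (t : 𝟙_ (Over (Spec (CommRingCat.of k))) ⟶ T) {s σ : Γ(L, ⊤)} {O : X.left.Opens}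
    {f : Γ(X.left, O)} (hf : res L le_top s = f • res L (le_top : O ≤ ⊤) σ) {O' : X.left.Opens}
    (h' : O' ≤ (transl a t).left ⁻¹ᵁ O) :
    res L le_top (G ψ hL t s) = (transl a t).left.appLE O O' h' f • res L (le_top : O' ≤ ⊤) (G ψ hL t σ) := by
  refine QC.section_eq_of_locally fun x hx => ?_
  obtain ⟨V, e, hxV, he⟩ := TMul.exists_isGen hL x
  refine ⟨O' ⊓ V, inf_le_left, ⟨hx, hxV⟩, ?_⟩
  have he' := he.res (inf_le_right : O' ⊓ V ≤ V)
  rw [res_smul, res_res, res_res, G_spec ψ hL t _ he', G_spec ψ hL t _ he', smul_smul,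
    co_G_of_eq ψ hL t hf (inf_le_left.trans h') he']
  congr 2
  exact (RingHom.congr_fun (congrArg CommRingCat.Hom.hom
    (Scheme.Hom.appLE_map (transl a t).left h' (homOfLE (inf_le_left : O' ⊓ V ≤ O')).op)) f).symm

/-- The operators as additive maps. -/
def Gh (t : 𝟙_ (Over (Spec (CommRingCat.of k))) ⟶ T) : Γ(L, ⊤) →+ Γ(L, ⊤) :=
  AddMonoidHom.mk' (G ψ hL t) (G_add ψ hL t)

variable [IsAffine T.left] [CompactSpace X.left] (C : Coord T r)

/-- Sections decompose into finitely many weights. -/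
theorem exists_decomp (s : Γ(L, ⊤)) :
    ∃ (S : Finset M) (sm : M → Γ(L, ⊤)), (∀ m ∉ S, sm m = 0) ∧
      ∀ t, G ψ hL t s = ∑ m ∈ S, cst X (theta C t (Multiplicative.ofAdd m) : k) • sm m := by
  classical
  choose V e hx he using fun x : X.left => TMul.exists_isGen hL x
  choose U hU hxU hUV using fun x : X.left => exists_isAffineOpen_mem_and_subset (x := x) (U := V x) (hx x)
  obtain ⟨J, hJ⟩ := isCompact_univ.elim_finite_subcover (fun x : X.left => (U x : Set X.left)) (fun x => (U x).2)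
    (fun x _ => Set.mem_iUnion.2 ⟨x, hxU x⟩)
  have hUV' : ∀ i : J, U i.1 ≤ V i.1 := fun i => hUV i.1
  let eU : ∀ i : J, Γ(L, U i.1) := fun i => res L (hUV' i) (e i.1)
  have heU : ∀ i, IsGen (eU i) := fun i => (he i.1).res (hUV' i)
  choose P hP using fun i : J => exists_poly C (hU i.1) (coefF ψ hL (heU i) s)
  have hG : ∀ t i, res L le_top (G ψ hL t s) = evalPt (theta C t) (P i) • eU i := fun t i => by
    rw [← hP]
    exact G_spec ψ hL t s (heU i)
  have compat : ∀ i j m, res L (inf_le_left : U i.1 ⊓ U j.1 ≤ U i.1) ((P i).coeff m • eU i) =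
      res L (inf_le_right : U i.1 ⊓ U j.1 ≤ U j.1) ((P j).coeff m • eU j) := by
    intro i j m
    let W := U i.1 ⊓ U j.1
    have hgi := (heU i).res (inf_le_left : W ≤ U i.1)
    obtain ⟨w, hw⟩ : ∃ w, w • res L (inf_le_left : W ≤ U i.1) (eU i) = res L inf_le_right (eU j) :=
      ⟨co hgi _, co_smul hgi _⟩
    have key : AddMonoidAlgebra.mapRingHom M (resO X.left (inf_le_left : W ≤ U i.1)) (P i) =
        AddMonoidAlgebra.single 0 w * AddMonoidAlgebra.mapRingHom M (resO X.left (inf_le_right : W ≤ U j.1)) (P j) := by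
      refine eq_of_evalPt (k := k) fun θ => ?_
      obtain ⟨t, rfl⟩ := theta_surjective C θ
      rw [map_mul, evalPt_single, evalPt_map _ (resO_cstV _), evalPt_map _ (resO_cstV _)]
      refine gen_inj hgi ?_
      rw [show Multiplicative.ofAdd (0 : M) = 1 from rfl, map_one, Units.val_one, map_one, mul_one, ← res_smul,
        ← hG, mul_comm w, mul_smul, hw, ← res_smul, ← hG, res_res, res_res]
    have h1 := congrArg (fun Q : AddMonoidAlgebra Γ(X.left, W) M => Q.coeff m) key
    simp only [AddMonoidAlgebra.coeff_single_zero_mul] at h1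
    erw [AddMonoidAlgebra.coeff_mapRingHom] at h1
    rw [res_smul, res_smul, h1, ← hw, mul_comm w, mul_smul]
    erw [AddMonoidAlgebra.coeff_mapRingHom]
  have hglue : ∀ m : M, ∃ g : Γ(L, ⊤), ∀ i : J, res L le_top g = (P i).coeff m • eU i := by
    intro m
    obtain ⟨g, hg, -⟩ := TopCat.Sheaf.existsUnique_gluing' (QC.abSheaf L) (fun i : J => U i.1) ⊤
      (fun i => homOfLE le_top) (fun x _ => by
        obtain ⟨y, hy, hxy⟩ := Set.mem_iUnion₂.1 (hJ (Set.mem_univ x))
        exact Opens.mem_iSup.2 ⟨⟨y, hy⟩, hxy⟩)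
      (fun i => (P i).coeff m • eU i) (fun i j => compat i j m)
    exact ⟨g, hg⟩
  choose sm hsm using hglue
  have hcov : ∀ x : X.left, ∃ i : J, x ∈ U i.1 := fun x => by
    obtain ⟨y, hy, hxy⟩ := Set.mem_iUnion₂.1 (hJ (Set.mem_univ x))
    exact ⟨⟨y, hy⟩, hxy⟩
  let S : Finset M := Finset.univ.biUnion fun i : J => (P i).coeff.support
  have hS : ∀ i m, m ∉ S → (P i).coeff m = 0 := fun i m hm => by
    by_contra h
    exact hm (Finset.mem_biUnion.2 ⟨i, Finset.mem_univ _, Finsupp.mem_support_iff.2 h⟩)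
  refine ⟨S, sm, fun m hm => QC.section_eq_of_locally fun x _ => ?_, fun t => QC.section_eq_of_locally fun x _ => ?_⟩
  · obtain ⟨i, hi⟩ := hcov x
    exact ⟨U i.1, le_top, hi, by rw [hsm, hS i m hm, zero_smul, map_zero]⟩
  · obtain ⟨i, hi⟩ := hcov x
    refine ⟨U i.1, le_top, hi, ?_⟩
    rw [hG, map_sum, evalPt_eq_sum, Finset.sum_smul]
    refine (Finset.sum_subset (s₂ := S) (fun m hm => Finset.mem_biUnion.2 ⟨i, Finset.mem_univ _, hm⟩) ?_).trans
      (Finset.sum_congr rfl fun m _ => ?_)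
    · intro m _ hm
      rw [Finsupp.notMem_support_iff.1 hm, zero_mul, zero_smul]
    · rw [res_smul, hsm, smul_smul, mul_comm]
      rfl

/-- The locus of a section. -/
abbrev loc (s : Γ(L, ⊤)) : X.left.Opens := CohB1.genLocus L (TMul.homOf s)

theorem basicOpen_co {V : X.left.Opens} {e : Γ(L, V)} (he : IsGen e) (z : Γ(L, ⊤)) :
    X.left.basicOpen (co he (res L le_top z)) = V ⊓ loc z :=
  (TMul.genLocus_inf _ he (by rw [TMul.val_homOf, co_smul])).symm

theorem sum_single_coeff {A : Type u} [CommRing A] (S : Finset M) (b : M → A) (hb : ∀ m ∉ S, b m = 0) (n : M) :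
    (∑ m ∈ S, AddMonoidAlgebra.single m (b m)).coeff n = b n := by
  classical
  rw [AddMonoidAlgebra.coeff_sum, Finsupp.finset_sum_apply, Finset.sum_eq_single n]
  · rw [AddMonoidAlgebra.coeff_single, Finsupp.single_eq_same]
  · intro m _ hm
    rw [AddMonoidAlgebra.coeff_single, Finsupp.single_eq_of_ne hm.symm]
  · intro hn
    rw [hb n hn, AddMonoidAlgebra.coeff_single, Finsupp.single_zero, Finsupp.zero_apply]

theorem single_mul_sum_coeff {A : Type u} [CommRing A] (S : Finset M) (b : M → A) (hb : ∀ m ∉ S, b m = 0) (d : M) (c : A)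
    (n : M) : (AddMonoidAlgebra.single d c * ∑ m ∈ S, AddMonoidAlgebra.single m (b m)).coeff n = c * b (n - d) := by
  classical
  rw [Finset.mul_sum, AddMonoidAlgebra.coeff_sum, Finsupp.finset_sum_apply, Finset.sum_eq_single (n - d)]
  · rw [AddMonoidAlgebra.single_mul_single, add_sub_cancel, AddMonoidAlgebra.coeff_single, Finsupp.single_eq_same]
  · intro m _ hm
    rw [AddMonoidAlgebra.single_mul_single, AddMonoidAlgebra.coeff_single, Finsupp.single_eq_of_ne]
    intro h
    exact hm (eq_sub_of_add_eq' h.symm)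
  · intro hn
    rw [hb _ hn, AddMonoidAlgebra.single_mul_single, mul_zero, AddMonoidAlgebra.coeff_single, Finsupp.single_zero,
      Finsupp.zero_apply]

variable [IsIntegral X.left] [LocallyOfFiniteType X.hom]

theorem finiteType_algV {V : X.left.Opens} (hV : IsAffineOpen V) : Algebra.FiniteType k Γ(X.left, V) := by
  have h1 := X.hom.finiteType_appLE (isAffineOpen_top _) hV (le_top : V ≤ X.hom ⁻¹ᵁ ⊤)
  exact h1.comp (RingHom.FiniteType.of_surjective _
    (ConcreteCategory.bijective_of_isIso (Scheme.ΓSpecIso (CommRingCat.of k)).inv).2)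

/-- The coefficient of a global section in a frame. -/
def kap {V : X.left.Opens} {e : Γ(L, V)} (he : IsGen e) : Γ(L, ⊤) →+ Γ(X.left, V) :=
  AddMonoidHom.mk' (fun z => co he (res L le_top z)) fun z z' => by rw [map_add, co_add]

theorem kap_smul {V : X.left.Opens} {e : Γ(L, V)} (he : IsGen e) (c : k) (z : Γ(L, ⊤)) :
    kap he (cst X c • z) = cstV X V c * kap he z := by
  show co he (res L le_top (cst X c • z)) = _
  rw [res_smul, co_smul', cstV_eq]
  rfl

theorem basicOpen_kap {V : X.left.Opens} {e : Γ(L, V)} (he : IsGen e) (z : Γ(L, ⊤)) :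
    X.left.basicOpen (kap he z) = V ⊓ loc z := basicOpen_co he z

/-- The polynomial of the composed operators. -/
def polyP (u : 𝟙_ (Over (Spec (CommRingCat.of k))) ⟶ T) {V : X.left.Opens} {e : Γ(L, V)} (he : IsGen e)
    (S : Finset M) (sm : M → Γ(L, ⊤)) : AddMonoidAlgebra Γ(X.left, V) M :=
  ∑ m ∈ S, AddMonoidAlgebra.single m (kap he (G ψ hL u (sm m)))

/-- The polynomial of the operator of the product. -/
def polyQ (u : 𝟙_ (Over (Spec (CommRingCat.of k))) ⟶ T) {V : X.left.Opens} {e : Γ(L, V)} (he : IsGen e)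
    (S : Finset M) (sm : M → Γ(L, ⊤)) : AddMonoidAlgebra Γ(X.left, V) M :=
  ∑ m ∈ S, AddMonoidAlgebra.single m (cstV X V (theta C u (Multiplicative.ofAdd m) : k) * kap he (sm m))

variable (u : 𝟙_ (Over (Spec (CommRingCat.of k))) ⟶ T) {V : X.left.Opens} {e : Γ(L, V)} (he : IsGen e)

theorem evalPt_polyP {z : Γ(L, ⊤)} {S : Finset M} {sm : M → Γ(L, ⊤)}
    (h : ∀ t, G ψ hL t z = ∑ m ∈ S, cst X (theta C t (Multiplicative.ofAdd m) : k) • sm m) (t) :
    evalPt (theta C t) (polyP ψ hL u he S sm) = kap he (G ψ hL u (G ψ hL t z)) := by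
  rw [h t, polyP, map_sum]
  show _ = kap he (Gh ψ hL u (∑ m ∈ S, _))
  rw [map_sum, map_sum]
  refine Finset.sum_congr rfl fun m _ => ?_
  rw [evalPt_single]
  show _ = kap he (G ψ hL u (cst X _ • sm m))
  rw [G_smul, kap_smul, mul_comm]
  rfl

theorem evalPt_polyQ {z : Γ(L, ⊤)} {S : Finset M} {sm : M → Γ(L, ⊤)}
    (h : ∀ t, G ψ hL t z = ∑ m ∈ S, cst X (theta C t (Multiplicative.ofAdd m) : k) • sm m) (t) :
    evalPt (theta C t) (polyQ C u he S sm) = kap he (G ψ hL (t * u) z) := by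
  rw [h (t * u), polyQ, map_sum, map_sum]
  refine Finset.sum_congr rfl fun m _ => ?_
  rw [evalPt_single, kap_smul, theta_mul, map_mul (cstV X V)]
  show _ * kap he (sm m) * cstV X V _ = _
  ring

theorem kap_cross [Nonempty V] (t : 𝟙_ (Over (Spec (CommRingCat.of k))) ⟶ T) (z w : Γ(L, ⊤))
    (hw : (loc w : Set X.left).Nonempty) :
    kap he (G ψ hL u (G ψ hL t z)) * kap he (G ψ hL (t * u) w) =
      kap he (G ψ hL u (G ψ hL t w)) * kap he (G ψ hL (t * u) z) := by
  obtain ⟨f, hf⟩ : ∃ f, f • res L (le_top : loc w ≤ ⊤) w = res L le_top z := by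
    have hg := TMul.isGen_genLocus (TMul.homOf w)
    rw [TMul.val_homOf] at hg
    exact ⟨co hg _, co_smul hg _⟩
  haveI := isIso_transl a t
  haveI := isIso_transl a u
  let O2 : X.left.Opens := (transl a u).left ⁻¹ᵁ ((transl a t).left ⁻¹ᵁ loc w)
  have hO2ne : (O2 : Set X.left).Nonempty := by
    obtain ⟨y, hy⟩ := hw
    obtain ⟨y', rfl⟩ := (transl a t).left.surjective y
    obtain ⟨y'', rfl⟩ := (transl a u).left.surjective y'
    exact ⟨y'', hy⟩
  have r1 := G_rel ψ hL u (G_rel ψ hL t hf.symm (le_refl ((transl a t).left ⁻¹ᵁ loc w))) (le_refl O2)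
  have hle : O2 ≤ (transl a (t * u)).left ⁻¹ᵁ loc w := by
    rw [transl_mul, Over.comp_left, Scheme.Hom.comp_preimage]
  have r2 := G_rel ψ hL (t * u) hf.symm hle
  have hcomp : (transl a (t * u)).left.appLE (loc w) O2 hle f =
      (transl a u).left.appLE ((transl a t).left ⁻¹ᵁ loc w) O2 le_rfl
        ((transl a t).left.appLE (loc w) ((transl a t).left ⁻¹ᵁ loc w) le_rfl f) :=
    appLE_of_eq_comp _ _ _ (by rw [transl_mul, Over.comp_left]) _ _ _ _ _
  rw [hcomp] at r2
  let W := V ⊓ O2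
  haveI : Nonempty W := (nonempty_preirreducible_inter V.2 O2.2
    (Set.nonempty_coe_sort.1 ‹Nonempty V›) hO2ne).to_subtype
  have hgW := he.res (inf_le_left : W ≤ V)
  have cross : ∀ (φ : Γ(X.left, O2)) (z z' : Γ(L, ⊤)), res L le_top z = φ • res L (le_top : O2 ≤ ⊤) z' →
      resO X.left (inf_le_left : W ≤ V) (kap he z) =
        resO X.left (inf_le_right : W ≤ O2) φ * resO X.left (inf_le_left : W ≤ V) (kap he z') := by
    intro φ z z' h
    refine gen_inj hgW ?_
    rw [mul_smul, ← res_smul, ← res_smul]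
    show res L _ (co he (res L le_top z) • e) = _ • res L _ (co he (res L le_top z') • e)
    rw [co_smul, co_smul, res_res, res_res, ← res_res L (inf_le_right : W ≤ O2) le_top z, h, res_smul, res_res]
  refine map_injective_of_isIntegral X.left (homOfLE (inf_le_left : W ≤ V)) ?_
  show resO X.left _ _ = resO X.left _ _
  rw [map_mul, map_mul, cross _ _ _ r1, cross _ _ _ r2]
  ring

theorem span_of_loc (hV : IsAffineOpen V) {I : Type*} (σ : I → Γ(L, ⊤))
    (hσ : ∀ y : X.left, ∃ i, y ∈ loc (σ i)) (R : I → AddMonoidAlgebra Γ(X.left, V) M)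
    (hR : ∀ t i, X.left.basicOpen (evalPt (theta C t) (R i)) = V ⊓ (transl a (t * u)).left ⁻¹ᵁ loc (σ i)) :
    Ideal.span (Set.range R) = ⊤ := by
  haveI := finiteType_algV (X := X) hV
  refine span_eq_top (k := k) R fun y θ => ?_
  obtain ⟨t, rfl⟩ := theta_surjective C θ
  let p : PrimeSpectrum Γ(X.left, V) := ⟨RingHom.ker y.toRingHom, RingHom.ker_isPrime _⟩
  have hz : hV.fromSpec p ∈ V := hV.range_fromSpec.subset ⟨p, rfl⟩
  obtain ⟨i, hi⟩ := hσ ((transl a (t * u)).left (hV.fromSpec p))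
  refine ⟨i, fun h0 => ?_⟩
  have h1 : hV.fromSpec p ∈ X.left.basicOpen (evalPt (theta C t) (R i)) := (hR t i).ge ⟨hz, hi⟩
  have h2 : p ∈ hV.fromSpec ⁻¹ᵁ X.left.basicOpen (evalPt (theta C t) (R i)) := h1
  rw [hV.fromSpec_preimage_basicOpen] at h2
  exact h2 h0

include he in
theorem exists_shift {J0 : Type*} (σ : J0 → Γ(L, ⊤)) (hσ : ∀ y, ∃ i, y ∈ loc (σ i))
    (hV : IsAffineOpen V) [Nonempty V] (i₀ : J0) (hi₀ : (loc (σ i₀) : Set X.left).Nonempty)
    {S : Finset M} {sm : M → Γ(L, ⊤)} (hsm : ∀ m ∉ S, sm m = 0)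
    (hdec : ∀ t, G ψ hL t (σ i₀) = ∑ m ∈ S, cst X (theta C t (Multiplicative.ofAdd m) : k) • sm m) :
    ∃ d : M, ∀ n, V ⊓ (transl a u).left ⁻¹ᵁ loc (sm n) = V ⊓ loc (sm (n - d)) := by
  classical
  haveI : IsDomain Γ(X.left, V) := inferInstance
  let I := {i : J0 // (loc (σ i) : Set X.left).Nonempty}
  choose Si smi hsmi hdeci using fun i : I => exists_decomp ψ hL C (σ i.1)
  have hne : ∀ y : X.left, ∃ i : I, y ∈ loc (σ i.1) := fun y => by
    obtain ⟨i, hi⟩ := hσ y
    exact ⟨⟨i, _, hi⟩, hi⟩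
  obtain ⟨d, c, hc, hPQ⟩ := exists_monomial (fun i => polyP ψ hL u he (Si i) (smi i))
    (fun i => polyQ C u he (Si i) (smi i))
    (fun i j => eq_of_evalPt (k := k) fun θ => by
      obtain ⟨t, rfl⟩ := theta_surjective C θ
      simp only [map_mul, evalPt_polyP ψ hL C u he (hdeci _), evalPt_polyQ ψ hL C u he (hdeci _)]
      exact kap_cross ψ hL u he t _ _ j.2)
    (span_of_loc (a := a) C u hV (fun i : I => σ i.1) hne _ fun t i => by
      rw [evalPt_polyP ψ hL C u he (hdeci i), basicOpen_kap, loc, genLocus_G, genLocus_G, transl_mul,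
        ← Scheme.Hom.comp_preimage, ← Over.comp_left])
    (span_of_loc (a := a) C u hV (fun i : I => σ i.1) hne _ fun t i => by
      rw [evalPt_polyQ ψ hL C u he (hdeci i), basicOpen_kap, loc, genLocus_G])
  let i : I := ⟨i₀, hi₀⟩
  have eP : polyP ψ hL u he (Si i) (smi i) = polyP ψ hL u he S sm := eq_of_evalPt (k := k) fun θ => by
    obtain ⟨t, rfl⟩ := theta_surjective C θ
    exact (evalPt_polyP ψ hL C u he (hdeci i) t).trans (evalPt_polyP ψ hL C u he hdec t).symm
  have eQ : polyQ C u he (Si i) (smi i) = polyQ C u he S sm := eq_of_evalPt (k := k) fun θ => by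
    obtain ⟨t, rfl⟩ := theta_surjective C θ
    exact (evalPt_polyQ ψ hL C u he (hdeci i) t).trans (evalPt_polyQ ψ hL C u he hdec t).symm
  refine ⟨d, fun n => ?_⟩
  have h := congrArg (fun R : AddMonoidAlgebra Γ(X.left, V) M => R.coeff n) (hPQ i)
  simp only [eP, eQ] at h
  rw [polyP, polyQ, sum_single_coeff S _ (fun m hm => by
      rw [hsm m hm, show G ψ hL u (0 : Γ(L, ⊤)) = 0 from (Gh ψ hL u).map_zero, map_zero]),
    single_mul_sum_coeff S _ (fun m hm => by rw [hsm m hm, map_zero, mul_zero])] at h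
  have h1 := congrArg X.left.basicOpen h
  simp only [basicOpen_kap, loc, genLocus_G] at h1
  rw [h1, Scheme.basicOpen_mul, X.left.basicOpen_of_isUnit hc, Scheme.basicOpen_mul,
    X.left.basicOpen_of_isUnit ((Units.isUnit _).map (cstV X V)), basicOpen_kap, ← inf_assoc, ← inf_assoc, inf_idem,
    inf_idem]

include hL in
theorem not_mem_loc_zero (x : X.left) : x ∉ loc (0 : Γ(L, ⊤)) := fun hx => by
  obtain ⟨V, e, hxV, he⟩ := TMul.exists_isGen hL x
  have h1 := (basicOpen_kap he (0 : Γ(L, ⊤))).ge ⟨hxV, hx⟩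
  rw [map_zero, Scheme.basicOpen_zero] at h1
  exact h1

omit [IsIntegral X.left] in
/-- A weight is a combination of translates. -/
theorem exists_sum_translates {s : Γ(L, ⊤)} {S : Finset M} {sm : M → Γ(L, ⊤)} (hsm : ∀ m ∉ S, sm m = 0)
    (hdec : ∀ t, G ψ hL t s = ∑ m ∈ S, cst X (theta C t (Multiplicative.ofAdd m) : k) • sm m) (n : M) :
    ∃ (J : Finset (Multiplicative M →* kˣ)) (c : (Multiplicative M →* kˣ) → k)
      (tp : (Multiplicative M →* kˣ) → (𝟙_ (Over (Spec (CommRingCat.of k))) ⟶ T)),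
      sm n = ∑ θ ∈ J, cst X (c θ) • G ψ hL (tp θ) s := by
  classical
  obtain ⟨J, c, hc⟩ := exists_combination (k := k) (r := r) S n
  choose tp htp using fun θ : Multiplicative M →* kˣ => theta_surjective C θ
  refine ⟨J, c, tp, ?_⟩
  simp only [hdec, Finset.smul_sum, smul_smul, htp]
  rw [Finset.sum_comm]
  simp only [← Finset.sum_smul, ← map_mul, ← map_sum]
  rw [Finset.sum_eq_single n]
  · by_cases hn : n ∈ S
    · rw [hc n hn, if_pos rfl, map_one, one_smul]
    · rw [hsm _ hn, smul_zero]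
  · intro m hm hne
    rw [hc m hm, if_neg hne, map_zero, zero_smul]
  · intro hn
    rw [hsm _ hn, smul_zero]

/-- **Weight sections have stable loci**: on every affine frame a weight is moved to a shifted weight, and the shift is
trivial as there are only finitely many weights. -/
theorem transl_loc {J0 : Type*} (σ : J0 → Γ(L, ⊤)) (hσ : ∀ y, ∃ i, y ∈ loc (σ i))
    (i₀ : J0) {S : Finset M} {sm : M → Γ(L, ⊤)} (hsm : ∀ m ∉ S, sm m = 0)
    (hdec : ∀ t, G ψ hL t (σ i₀) = ∑ m ∈ S, cst X (theta C t (Multiplicative.ofAdd m) : k) • sm m)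
    (n : M) :
    (transl a u).left ⁻¹ᵁ loc (sm n) = loc (sm n) := by
  classical
  haveI := isIso_transl a u
  refine Opens.ext (Set.ext fun y => ?_)
  obtain ⟨V', e', hyV', he'⟩ := TMul.exists_isGen hL y
  obtain ⟨V, hV, hyV, hVV'⟩ := exists_isAffineOpen_mem_and_subset (x := y) (U := V') hyV'
  haveI : Nonempty V := ⟨⟨y, hyV⟩⟩
  suffices h : ∀ n, V ⊓ (transl a u).left ⁻¹ᵁ loc (sm n) = V ⊓ loc (sm n) by
    have h := SetLike.ext_iff.1 (h n) y
    exact ⟨fun h' => (h.1 ⟨hyV, h'⟩).2, fun h' => (h.2 ⟨hyV, h'⟩).2⟩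
  by_cases hall : ∀ n, (loc (sm n) : Set X.left) = ∅
  · intro n
    have : loc (sm n) = ⊥ := Opens.ext (hall n)
    rw [this, Scheme.Hom.preimage_bot]
  push Not at hall
  obtain ⟨n₀, hn₀⟩ := hall
  have hsne : (loc (σ i₀) : Set X.left).Nonempty := by
    by_contra hse
    rw [Set.not_nonempty_iff_eq_empty] at hse
    obtain ⟨J, c, tp, hn⟩ := exists_sum_translates ψ hL C hsm hdec n₀
    obtain ⟨z, hz⟩ := hn₀
    obtain ⟨V₁, e₁, hzV₁, he₁⟩ := TMul.exists_isGen hL z
    have h1 := (basicOpen_kap he₁ (sm n₀)).ge ⟨hzV₁, hz⟩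
    rw [hn, map_sum, Finset.sum_eq_zero, Scheme.basicOpen_zero] at h1
    · exact h1
    · intro θ _
      have h0 : X.left.basicOpen (kap he₁ (G ψ hL (tp θ) (σ i₀))) = ⊥ := by
        rw [basicOpen_kap, loc, genLocus_G, show CohB1.genLocus L (TMul.homOf (σ i₀)) = ⊥ from Opens.ext hse,
          Scheme.Hom.preimage_bot, inf_bot_eq]
      rw [kap_smul, (AlgebraicGeometry.basicOpen_eq_bot_iff _).1 h0, mul_zero]
  obtain ⟨d, hd⟩ := exists_shift ψ hL C u (he'.res (hVV' : V ≤ V')) σ hσ hV i₀ hsne hsm hdec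
  have hne : ∀ n, (loc (sm n) : Set X.left).Nonempty → (loc (sm (n - d)) : Set X.left).Nonempty := by
    intro n ⟨y₁, hy₁⟩
    obtain ⟨y', rfl⟩ := (transl a u).left.surjective y₁
    obtain ⟨z, hz⟩ := nonempty_preirreducible_inter V.2 ((transl a u).left ⁻¹ᵁ loc (sm n)).2 ⟨y, hyV⟩ ⟨y', hy₁⟩
    exact ⟨z, ((hd n).le hz).2⟩
  suffices d = 0 by
    subst this
    intro n
    rw [hd, sub_zero]
  by_contra hd0
  have hnS : ∀ j : ℕ, n₀ - j • d ∈ S := by
    intro j
    have hj : (loc (sm (n₀ - j • d)) : Set X.left).Nonempty := by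
      induction j with
      | zero => rw [zero_smul, sub_zero]; exact hn₀
      | succ j ih => rw [succ_nsmul, ← sub_sub]; exact hne _ ih
    by_contra hS
    obtain ⟨y₁, hy₁⟩ := hj
    rw [hsm _ hS] at hy₁
    exact not_mem_loc_zero hL y₁ hy₁
  obtain ⟨i, hi⟩ := Function.ne_iff.1 hd0
  refine Set.infinite_range_of_injective (f := fun j : ℕ => n₀ - j • d) ?_ (S.finite_toSet.subset ?_)
  · intro p q hpq
    have := congrFun (sub_right_injective hpq) i
    simp only [Pi.smul_apply, nsmul_eq_mul] at this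
    exact_mod_cast mul_right_cancel₀ (show d i ≠ 0 from hi) this
  · rintro _ ⟨j, rfl⟩
    exact hnS j

omit [IsIntegral X.left] in
/-- A weight section with affine locus through a given point. -/
theorem exists_weight {s : Γ(L, ⊤)} (haff : IsAffineOpen (loc s)) {x : X.left}
    (hx : (transl a (1 : 𝟙_ (Over (Spec (CommRingCat.of k))) ⟶ T)).left x ∈ loc s)
    {S : Finset M} {sm : M → Γ(L, ⊤)} (hsm : ∀ m ∉ S, sm m = 0)
    (hdec : ∀ t, G ψ hL t s = ∑ m ∈ S, cst X (theta C t (Multiplicative.ofAdd m) : k) • sm m) :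
    ∃ n, x ∈ loc (sm n) ∧ IsAffineOpen (loc (sm n)) := by
  classical
  obtain ⟨n, hn⟩ : ∃ n, x ∈ loc (sm n) := by
    by_contra! hall
    obtain ⟨V, e, hxV, he⟩ := TMul.exists_isGen hL x
    have h1 : x ∈ X.left.basicOpen (co he (res L (le_top : V ≤ ⊤) (G ψ hL 1 s))) := by
      rw [basicOpen_co]
      refine ⟨hxV, ?_⟩
      rw [loc, genLocus_G]
      exact hx
    rw [X.left.mem_basicOpen _ x hxV, hdec, map_sum, show co he (∑ m ∈ S, res L (le_top : V ≤ ⊤)
        (cst X (theta C 1 (Multiplicative.ofAdd m) : k) • sm m)) =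
        ∑ m ∈ S, co he (res L (le_top : V ≤ ⊤) (cst X (theta C 1 (Multiplicative.ofAdd m) : k) • sm m)) from
      map_sum (AddMonoidHom.mk' (co he) (co_add he)) _ S, map_sum] at h1
    refine (Ideal.sum_mem (IsLocalRing.maximalIdeal _) fun m _ => ?_ :
      ∑ m ∈ S, _ ∈ IsLocalRing.maximalIdeal (X.left.presheaf.stalk x)) h1
    rw [res_smul, co_smul', map_mul]
    refine Ideal.mul_mem_left _ _ fun hu => hall m ?_
    exact ((basicOpen_co he (sm m)).le ((X.left.mem_basicOpen _ x hxV).2 hu)).2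
  refine ⟨n, hn, ?_⟩
  obtain ⟨J, c, tp, hsum⟩ := exists_sum_translates ψ hL C hsm hdec n
  let g : J → (Coh.structureModule X.left ⟶ L) := fun θ => TMul.homOf (cst X (c θ.1) • G ψ hL (tp θ.1) s)
  have hg : ∀ θ, IsAffineOpen (CohB1.genLocus L (g θ)) := by
    intro θ
    haveI := isIso_transl a (tp θ.1)
    by_cases hz : c θ.1 = 0
    · have : CohB1.genLocus L (g θ) = ⊥ := by
        refine eq_bot_iff.2 fun y hy => ?_
        obtain ⟨V, e, hyV, he⟩ := TMul.exists_isGen hL y
        have h1 : y ∈ X.left.basicOpen (co he (res L (le_top : V ≤ ⊤) (cst X (c θ.1) • G ψ hL (tp θ.1) s))) :=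
          (basicOpen_co he _).ge ⟨hyV, hy⟩
        rw [res_smul, co_smul', hz, map_zero, map_zero, zero_mul, Scheme.basicOpen_zero] at h1
        exact h1
      rw [this]
      exact isAffineOpen_bot X.left
    · have : CohB1.genLocus L (g θ) = (transl a (tp θ.1)).left ⁻¹ᵁ loc s := by
        rw [← genLocus_G ψ hL]
        refine Opens.ext (Set.ext fun y => ?_)
        obtain ⟨V, e, hyV, he⟩ := TMul.exists_isGen hL y
        show y ∈ CohB1.genLocus L (g θ) ↔ y ∈ CohB1.genLocus L (TMul.homOf (G ψ hL (tp θ.1) s))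
        have e1 := SetLike.ext_iff.1 (basicOpen_co he (cst X (c θ.1) • G ψ hL (tp θ.1) s)) y
        have e2 := SetLike.ext_iff.1 (basicOpen_co he (G ψ hL (tp θ.1) s)) y
        rw [res_smul, co_smul', Scheme.basicOpen_mul, ← cstV_eq, X.left.basicOpen_of_isUnit
          ((isUnit_iff_ne_zero.2 hz).map (cstV X V))] at e1
        exact ⟨fun h => (e2.1 ((e1.2 ⟨hyV, h⟩).2)).2, fun h => (e1.1 ⟨hyV, e2.2 ⟨hyV, h⟩⟩).2⟩
      rw [this]
      exact haff.preimage _
  have hval : TMul.homOf (sm n) = ∑ θ : J, g θ := by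
    refine TMul.hom_ext_val ?_
    rw [TMul.val_sum, TMul.val_homOf, hsum, map_sum, ← Finset.sum_coe_sort]
    exact Finset.sum_congr rfl fun θ _ => (TMul.val_homOf _ _).symm
  show IsAffineOpen (CohB1.genLocus L _)
  rw [hval]
  exact TMul.isAffineOpen_genLocus_sum g hL hg

end Groth.Agent.Sumihiro
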